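import Groth.Agent.L05.Bosch.Apps
import Groth.Agent.L05.Bosch.CompFlat
import Mathlib.AlgebraicGeometry.Modules.Tilde
import Mathlib.RingTheory.Localization.Finiteness
import Mathlib.Algebra.Module.LocalizedModule.Exact
import Mathlib.RingTheory.Localization.Away.AdjoinRoot

/-!
# Sections of the sheaves of modules over algebras topologically of finite type
-/

set_option autoImplicit false
set_option linter.style.haveILetI false
set_option linter.unusedSectionVars false
set_option backward.isDefEq.respectTransparency false
set_option backward.isDefEq.respectTransparency.types false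

universe u

open CategoryTheory AlgebraicGeometry AdicRing PrimeSpectrum

noncomputable section

namespace Groth.L09.FCompl

open Groth.L05.Bosch

variable {R : Type u} [CommRing R] {I : Ideal R}

theorem map_pow_smul_top_restrict {C : Type u} [CommRing C] [Algebra R C] (M : Type u) [AddCommGroup M] [Module R M]
    [Module C M] [IsScalarTower R C M] (N : Submodule C M) (n : ℕ) :
    ((I.map (algebraMap R C)) ^ n • N).restrictScalars R = I ^ n • N.restrictScalars R := by
  rw [← Ideal.map_pow, Ideal.smul_restrictScalars]

/-- Artin–Rees. -/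
theorem exists_ar {C : Type u} [CommRing C] [Algebra R C] (hG : Good R I C) (M : Type u) [AddCommGroup M]
    [Module C M] [Module.Finite C M] (N : Submodule C M) :
    ∃ c : ℕ, ∀ n, c ≤ n → (I.map (algebraMap R C)) ^ n • (⊤ : Submodule C M) ⊓ N ≤
      (I.map (algebraMap R C)) ^ (n - c) • N := by
  letI : Module R M := Module.compHom M (algebraMap R C)
  haveI : IsScalarTower R C M := IsScalarTower.of_algebraMap_smul fun _ _ => rfl
  obtain ⟨-, c, K, hKN, -, hAR⟩ := hG M N
  refine ⟨c, fun n hn x hx => ?_⟩
  obtain ⟨m, rfl⟩ := Nat.exists_eq_add_of_le' hn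
  rw [Nat.add_sub_cancel]
  have h1 : x ∈ (I ^ (m + c) • (⊤ : Submodule R M)) ⊓ N.restrictScalars R := by
    refine ⟨?_, hx.2⟩
    rw [← Submodule.restrictScalars_top R C M, ← map_pow_smul_top_restrict M ⊤ (m + c)]
    exact hx.1
  have h2 := hAR m h1
  rw [← map_pow_smul_top_restrict M K m] at h2
  exact Submodule.smul_mono le_rfl hKN h2

/-- Finite modules are complete. -/
theorem isAdicComplete_finite (hR : IsBase R I) {A : Type u} [CommRing A] [Algebra R A] (hA : TopFiniteType R I A)
    (M : Type u) [AddCommGroup M] [Module A M] [Module.Finite A M] : IsAdicComplete (I.map (algebraMap R A)) M := by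
  letI : Module R M := Module.compHom M (algebraMap R A)
  haveI : IsScalarTower R A M := IsScalarTower.of_algebraMap_smul fun _ _ => rfl
  exact (IsAdicComplete.map_algebraMap_iff (S := A) I M).mpr (isAdicComplete_of_topFiniteType hR hA M)

section Tilde

variable {A : CommRingCat.{u}} (f : A)

/-- The sections of the structure sheaf over a basic open. -/
abbrev Af : Type u := Γ(Spec A, basicOpen f)

theorem finiteType_Af : Algebra.FiniteType A (Af f) :=
  haveI := IsLocalization.Away.finitePresentation (R := A) (S := Af f) f
  inferInstance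

variable {f}

/-- Sections of a map of modules over an open, linear over the base. -/
def tApp {M N : ModuleCat.{u} A} (u : M ⟶ N) (W : (Spec A).Opens) :
    Γ((tilde.functor A).obj M, W) →ₗ[A] Γ((tilde.functor A).obj N, W) :=
  ((modulesSpecToSheaf.map ((tilde.functor A).map u)).1.app (.op W)).hom

theorem tApp_apply {M N : ModuleCat.{u} A} (u : M ⟶ N) (W : (Spec A).Opens)
    (x : Γ((tilde.functor A).obj M, W)) :
    tApp u W x = ((tilde.functor A).map u).app W x := rfl

/-- The sections from the elements of the module. -/
def tSec (M : ModuleCat.{u} A) (W : (Spec A).Opens) :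
    M →ₗ[A] Γ((tilde.functor A).obj M, W) :=
  (tilde.toOpen (R := CommRingCat.of A) M W).hom

theorem tApp_tSec {M N : ModuleCat.{u} A} (u : M ⟶ N) (W : (Spec A).Opens) (x : M) :
    tApp u W (tSec M W x) = tSec N W (u x) :=
  LinearMap.congr_fun (congrArg ModuleCat.Hom.hom (tilde.toOpen_map_app (R := CommRingCat.of A) u W)) x

theorem tSec_res (M : ModuleCat.{u} A) {W V : (Spec A).Opens} (e : V ≤ W) (x : M) :
    ((tilde.functor A).obj M).presheaf.map (homOfLE e).op (tSec M W x) = tSec M V x :=
  LinearMap.congr_fun (congrArg ModuleCat.Hom.hom (tilde.toOpen_res (R := CommRingCat.of A) M W V (homOfLE e))) x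

instance isLocalizedModule_tSec (M : ModuleCat.{u} A) (f : A) :
    IsLocalizedModule.Away f (tSec M (basicOpen f)) :=
  inferInstanceAs (IsLocalizedModule.Away f (tilde.toOpen (R := CommRingCat.of A) M (basicOpen f)).hom)

theorem bijective_tSec_top (M : ModuleCat.{u} A) : Function.Bijective (tSec M ⊤) :=
  ConcreteCategory.bijective_of_isIso (tilde.toOpen (R := CommRingCat.of A) M ⊤)

theorem finite_sect (M : ModuleCat.{u} A) [Module.Finite A M] (f : A) :
    Module.Finite (Af f) Γ((tilde.functor A).obj M, basicOpen f) :=
  Module.Finite.of_isLocalizedModule (Submonoid.powers f) (tSec M (basicOpen f))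

theorem tApp_eq_map {M N : ModuleCat.{u} A} (u : M ⟶ N) (f : A) :
    tApp u (basicOpen f) = IsLocalizedModule.map (Submonoid.powers f) (tSec M (basicOpen f)) (tSec N (basicOpen f))
      u.hom :=
  IsLocalizedModule.linearMap_ext (Submonoid.powers f) (tSec M (basicOpen f)) (tSec N (basicOpen f))
    (LinearMap.ext fun x => (tApp_tSec u (basicOpen f) x).trans
      (IsLocalizedModule.map_apply (Submonoid.powers f) (tSec M (basicOpen f)) (tSec N (basicOpen f)) u.hom x).symm)

theorem injective_tApp {M N : ModuleCat.{u} A} (u : M ⟶ N) (hu : Function.Injective u) (f : A) :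
    Function.Injective (tApp u (basicOpen f)) := by
  rw [tApp_eq_map]
  exact IsLocalizedModule.map_injective _ _ _ u.hom hu

theorem surjective_tApp {M N : ModuleCat.{u} A} (u : M ⟶ N) (hu : Function.Surjective u) (f : A) :
    Function.Surjective (tApp u (basicOpen f)) := by
  rw [tApp_eq_map]
  exact IsLocalizedModule.map_surjective _ _ _ u.hom hu

theorem exact_tApp {M N P : ModuleCat.{u} A} (u : M ⟶ N) (v : N ⟶ P) (h : Function.Exact u v) (f : A) :
    Function.Exact (tApp u (basicOpen f)) (tApp v (basicOpen f)) := by
  rw [tApp_eq_map, tApp_eq_map]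
  exact IsLocalizedModule.map_exact _ _ _ _ u.hom v.hom h

/-- The sections over a basic open form a good algebra. -/
theorem good_Af (hR : IsBase R I) [Algebra R A] (hA : TopFiniteType R I A) (f : A) :
    letI : Algebra R (Af f) := ((algebraMap A (Af f)).comp (algebraMap R A)).toAlgebra
    Good R I (Af f) := by
  letI : Algebra R (Af f) := ((algebraMap A (Af f)).comp (algebraMap R A)).toAlgebra
  haveI : IsScalarTower R A (Af f) := IsScalarTower.of_algebraMap_eq fun _ => rfl
  haveI := finiteType_Af f
  exact good_of_finiteType hR hA (Af f)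

end Tilde

end Groth.L09.FCompl
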