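import Groth.Agent.L09.FCompl.Alg
import Groth.Agent.L17.FSheaf.CompSect
import Groth.Agent.L17.FSheaf.HomEquiv
import Groth.Agent.L17.FSheaf.SpfCut

/-!
# Completion of modules over affine schemes, section by section
-/

set_option autoImplicit false
set_option linter.style.haveILetI false
set_option linter.unusedSectionVars false
set_option backward.isDefEq.respectTransparency false
set_option backward.isDefEq.respectTransparency.types false

universe u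

open CategoryTheory CategoryTheory.Limits AlgebraicGeometry TopologicalSpace Opposite

noncomputable section

namespace Groth.L09.FCompl

open Groth.L17.FSheaf Groth.L09.FCompl
open Groth.L18.Frame (rs ro pull pull_rs rs_rs rs_self)

theorem exists_coeff_of_mem {C : Type u} [CommRing C] {P : Type u} [AddCommGroup P] [Module C P] {n : ℕ}
    (v : Fin n → P) (hv : Submodule.span C (Set.range v) = ⊤) (K : Ideal C) {x : P}
    (hx : x ∈ K • (⊤ : Submodule C P)) : ∃ a : Fin n → C, (∀ i, a i ∈ K) ∧ ∑ i, a i • v i = x := by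
  refine Submodule.smul_induction_on hx (fun r hr y _ => ?_) ?_
  · obtain ⟨c, rfl⟩ := (Submodule.mem_span_range_iff_exists_fun C).mp (hv ▸ Submodule.mem_top : y ∈ _)
    exact ⟨fun i => r * c i, fun i => K.mul_mem_right _ hr, by simp [Finset.smul_sum, smul_smul]⟩
  · rintro _ _ ⟨a, ha, rfl⟩ ⟨b, hb, rfl⟩
    exact ⟨fun i => a i + b i, fun i => add_mem (ha i) (hb i), by simp [add_smul, Finset.sum_add_distrib]⟩

theorem sub_mem_pow {R : Type u} [CommRing R] {M : Type u} [AddCommGroup M] [Module R M] (K : Ideal R)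
    {m : ℕ → M} (hm : ∀ k, m (k + 1) - m k ∈ K ^ (k + 1) • (⊤ : Submodule R M)) {i j : ℕ} (hij : i ≤ j) :
    m j - m i ∈ K ^ (i + 1) • (⊤ : Submodule R M) := by
  induction j, hij using Nat.le_induction with
  | base => rw [sub_self]; exact Submodule.zero_mem _
  | succ j hij ih =>
    rw [show m (j + 1) - m i = (m (j + 1) - m j) + (m j - m i) by abel]
    exact add_mem (Submodule.smul_mono (Ideal.pow_le_pow_right (by omega)) le_rfl (hm j)) ih

section Sys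

variable {X : Scheme.{u}} (𝔛 : FSch.Sys.{u}) (h : 𝔛.IsFormal) (p : ∀ k, 𝔛.X k ⟶ X)
  (hp : ∀ k, 𝔛.ι k ≫ p (k + 1) = p k)

theorem qM_map {𝔐 𝔑 : FSch.ModSys 𝔛} (φ : 𝔐 ⟶ 𝔑) (k : ℕ) (U : (𝔛.X 0).Opens) (x : RM 𝔛 h 𝔐 U) :
    (qM 𝔛 h 𝔑 k U (((FSch.ModSys.realModMap h φ).val.app (op U)).hom x) : Γ(𝔑.F k, 𝔛.lvU h k U)) =
      (φ.app k).app (𝔛.lvU h k U) (qM 𝔛 h 𝔐 k U x) :=
  LinearMap.congr_fun (congrArg (fun t => ((t : 𝔐.realMod h ⟶ _).val.app (op U)).hom)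
    (FSch.realLimMap_realProj 𝔛 h φ.app (FSch.ModSys.Hom.toPush_comm φ) k)) x

variable (F : X.Modules)

theorem exists_compl (W : X.Opens) (m : Γ(F, W)) :
    ∃ x : RM 𝔛 h (pullSys 𝔛 p hp F) (pU 𝔛 p W), ∀ k, qM 𝔛 h (pullSys 𝔛 p hp F) k (pU 𝔛 p W) x = pW 𝔛 h p hp F k W m :=
  exists_qM 𝔛 h (pullSys 𝔛 p hp F) _ fun k => tM_pW 𝔛 h p hp F k W m

/-- The completed section of a section. -/
def compl (W : X.Opens) (m : Γ(F, W)) : RM 𝔛 h (pullSys 𝔛 p hp F) (pU 𝔛 p W) :=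
  (exists_compl 𝔛 h p hp F W m).choose

theorem qM_compl (W : X.Opens) (m : Γ(F, W)) (k : ℕ) :
    qM 𝔛 h (pullSys 𝔛 p hp F) k (pU 𝔛 p W) (compl 𝔛 h p hp F W m) = pW 𝔛 h p hp F k W m :=
  (exists_compl 𝔛 h p hp F W m).choose_spec k

theorem map_compl {G : X.Modules} (φ : F ⟶ G) (W : X.Opens) (m : Γ(F, W)) :
    ((FSch.ModSys.realModMap h (pullSysMap 𝔛 p hp φ)).val.app (op (pU 𝔛 p W))).hom (compl 𝔛 h p hp F W m) =
      compl 𝔛 h p hp G W (φ.app W m) := by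
  refine qM_ext 𝔛 h _ fun k => ?_
  rw [qM_compl]
  refine (qM_map 𝔛 h _ k _ _).trans ?_
  rw [qM_compl, pW_map]

theorem res_compl {W V : X.Opens} (e : V ≤ W) (m : Γ(F, W)) :
    res (R := ModSite.ringSh (𝔛.Osh h)) ((pullSys 𝔛 p hp F).realMod h) ((p 0).preimage_mono e)
        (compl 𝔛 h p hp F W m) = compl 𝔛 h p hp F V (rs F e m) := by
  refine qM_ext 𝔛 h _ fun k => ?_
  rw [qM_compl]
  refine (PresheafOfModules.naturality_apply (FSch.realProj 𝔛 h _ _ k).val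
    (homOfLE ((p 0).preimage_mono e)).op (compl 𝔛 h p hp F W m)).trans ?_
  show rs _ (lvU_mono 𝔛 h k ((p 0).preimage_mono e)) (qM 𝔛 h (pullSys 𝔛 p hp F) k (pU 𝔛 p W) (compl 𝔛 h p hp F W m)) = _
  rw [qM_compl]
  show rs _ _ (rs _ _ (pull (p k) F W m)) = rs _ _ (pull (p k) F V (rs F e m))
  rw [← pull_rs (p k) F e m]
  exact (rs_rs _ _ _ _).trans (rs_rs _ _ _ _).symm

/-- The image of a function on the levels. -/
abbrev aW (k : ℕ) (W : X.Opens) : Γ(X, W) →+* Γ(𝔛.X k, 𝔛.lvU h k (pU 𝔛 p W)) :=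
  ((p k).appLE W (𝔛.lvU h k (pU 𝔛 p W)) (pU_le 𝔛 h p hp k W)).hom

theorem pW_smul (k : ℕ) (W : X.Opens) (r : Γ(X, W)) (m : Γ(F, W)) :
    pW 𝔛 h p hp F k W (r • m) = aW 𝔛 h p hp k W r • pW 𝔛 h p hp F k W m :=
  letI := Module.compHom Γ((Scheme.Modules.pullback (p k)).obj F, 𝔛.lvU h k (pU 𝔛 p W)) (aW 𝔛 h p hp k W)
  (Groth.L16.AffineBC.pullRes (p k) F (pU_le 𝔛 h p hp k W)).map_smul r m

theorem pW_sum (k : ℕ) (W : X.Opens) {ι : Type*} (t : Finset ι) (m : ι → Γ(F, W)) :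
    pW 𝔛 h p hp F k W (∑ i ∈ t, m i) = ∑ i ∈ t, pW 𝔛 h p hp F k W (m i) :=
  letI := Module.compHom Γ((Scheme.Modules.pullback (p k)).obj F, 𝔛.lvU h k (pU 𝔛 p W)) (aW 𝔛 h p hp k W)
  map_sum (Groth.L16.AffineBC.pullRes (p k) F (pU_le 𝔛 h p hp k W)) m t

theorem tR_aW (k : ℕ) (W : X.Opens) (r : Γ(X, W)) :
    tR 𝔛 h k (pU 𝔛 p W) (aW 𝔛 h p hp (k + 1) W r) = aW 𝔛 h p hp k W r := by
  exact ConcreteCategory.congr_hom (FSch.appLE_comp_appLE_of_eq (𝔛.ι k) (p (k + 1)) (p k) (hp k) W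
    (𝔛.lvU h (k + 1) (pU 𝔛 p W)) (𝔛.lvU h k (pU 𝔛 p W)) (pU_le 𝔛 h p hp (k + 1) W) (𝔛.lvU_le h k _)
    (pU_le 𝔛 h p hp k W)) r

theorem exists_function (W : X.Opens) (s : ℕ → Γ(X, W)) (hs : ∀ k, aW 𝔛 h p hp k W (s (k + 1) - s k) = 0) :
    ∃ γ : O 𝔛 h (pU 𝔛 p W), ∀ k, pR 𝔛 h k (pU 𝔛 p W) γ = aW 𝔛 h p hp k W (s k) :=
  exists_pR 𝔛 h (pU 𝔛 p W) _ fun k => by
    show tR 𝔛 h k (pU 𝔛 p W) (aW 𝔛 h p hp (k + 1) W (s (k + 1))) = _
    rw [tR_aW, ← sub_eq_zero, ← map_sub]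
    exact hs k

theorem compl_smul (W : X.Opens) (r : Γ(X, W)) (m : Γ(F, W)) :
    ∃ γ : O 𝔛 h (pU 𝔛 p W), (∀ k, pR 𝔛 h k (pU 𝔛 p W) γ = aW 𝔛 h p hp k W r) ∧
      compl 𝔛 h p hp F W (r • m) = γ • compl 𝔛 h p hp F W m := by
  obtain ⟨γ, hγ⟩ := exists_function 𝔛 h p hp W (fun _ => r) fun k => by rw [sub_self, map_zero]
  refine ⟨γ, hγ, qM_ext 𝔛 h _ fun k => ?_⟩
  rw [map_smul, qM_compl, qM_compl, smul_LM, hγ, pW_smul]

end Sys

section Affine

variable {A : CommRingCat.{u}} (J : Ideal A)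

/-- A basic open of the spectrum. -/
abbrev bO (f : A) : (Spec A).Opens := PrimeSpectrum.basicOpen f

theorem isAffineOpen_bO (f : A) : IsAffineOpen (bO f) := by
  rw [show bO f = (Spec A).basicOpen ((Scheme.ΓSpecIso A).inv f) from (basicOpen_eq_of_affine f).symm]
  exact (isAffineOpen_top _).basicOpen _

theorem bO_one : bO (1 : A) = ⊤ := PrimeSpectrum.basicOpen_one

theorem le_bO_one (W : (Spec A).Opens) : W ≤ bO (1 : A) := bO_one.symm ▸ le_top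

/-- An ideal sheaf with the sections of the ideal on the basic opens. -/
def IsIdealOf (𝓘 : (Spec A).IdealSheafData) : Prop :=
  ∀ f : A, 𝓘.ideal ⟨bO f, isAffineOpen_bO f⟩ = J.map (algebraMap A Γ(Spec A, bO f))

theorem isIdealOf_idealSpec (B : Type u) [CommRing B] (J : Ideal B) :
    IsIdealOf (A := CommRingCat.of B) J (FSch.idealSpec B J) := fun f => by
  rw [← (FSch.idealSpec B J).map_ideal
    (show (⟨bO f, isAffineOpen_bO f⟩ : (Spec (CommRingCat.of B)).affineOpens) ≤ ⟨⊤, isAffineOpen_top _⟩ from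
      (le_top : bO f ≤ (⊤ : (Spec (CommRingCat.of B)).Opens))),
    idealSpec_ideal_top, Ideal.map_map]
  rfl

variable (𝔛 : FSch.Sys.{u}) (h : 𝔛.IsFormal) (p : ∀ k, 𝔛.X k ⟶ Spec A)
  (hp : ∀ k, 𝔛.ι k ≫ p (k + 1) = p k) [IsClosedImmersion (p 0)]

theorem isBasis_bO : Opens.IsBasis {U : Opens (𝔛.X 0) | ∃ f : A, U = pU 𝔛 p (bO f)} := by
  refine Opens.isBasis_iff_nbhd.2 fun {U x} hx => ?_
  obtain ⟨V, hV, e⟩ := (p 0).isClosedEmbedding.isInducing.isOpen_iff.1 U.2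
  obtain ⟨_, ⟨f, rfl⟩, hxW, hWV⟩ := Opens.isBasis_iff_nbhd.1 PrimeSpectrum.isBasis_basic_opens
    (show p 0 x ∈ (⟨V, hV⟩ : Opens _) from e.ge hx)
  exact ⟨_, ⟨f, rfl⟩, hxW, fun y hy => e.le (hWV hy)⟩

variable {𝓘 : (Spec A).IdealSheafData} (hcut : CutBy 𝔛 p 𝓘) (hJ : IsIdealOf J 𝓘)
include hcut hJ

variable (M : ModuleCat.{u} A)

theorem aW_eq_zero {f : A} {k : ℕ} {r : Γ(Spec A, bO f)}
    (hr : r ∈ (J.map (algebraMap A Γ(Spec A, bO f))) ^ (k + 1)) : aW 𝔛 h p hp k (bO f) r = 0 := by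
  have hk := (ker_appLE (p k) (FSch.lvU_p 𝔛 h p hp k (bO f)).symm).trans (hcut k ⟨bO f, isAffineOpen_bO f⟩).2
  rw [hJ f] at hk
  exact hk.ge hr

theorem pW_spec' (f : A) (k : ℕ) :
    Function.Surjective (pW 𝔛 h p hp ((tilde.functor A).obj M) k (bO f)) ∧
      ∀ m, pW 𝔛 h p hp ((tilde.functor A).obj M) k (bO f) m = 0 ↔
        m ∈ (J.map (algebraMap A Γ(Spec A, bO f))) ^ (k + 1) •
          (⊤ : Submodule Γ(Spec A, bO f) Γ((tilde.functor A).obj M, bO f)) := by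
  haveI : Coh.IsQCoh ((tilde.functor A).obj M) := inferInstanceAs ((tilde.functor A).obj M).IsQuasicoherent
  have := pW_spec 𝔛 h p hp ((tilde.functor A).obj M) hcut (isAffineOpen_bO f) k
  rwa [hJ f] at this

theorem exists_lifts' (f : A) (x : RM 𝔛 h (pullSys 𝔛 p hp ((tilde.functor A).obj M)) (pU 𝔛 p (bO f))) :
    ∃ m : ℕ → Γ((tilde.functor A).obj M, bO f),
      (∀ k, pW 𝔛 h p hp ((tilde.functor A).obj M) k (bO f) (m k) =
        qM 𝔛 h (pullSys 𝔛 p hp ((tilde.functor A).obj M)) k (pU 𝔛 p (bO f)) x) ∧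
      ∀ k, m (k + 1) - m k ∈ (J.map (algebraMap A Γ(Spec A, bO f))) ^ (k + 1) •
        (⊤ : Submodule Γ(Spec A, bO f) Γ((tilde.functor A).obj M, bO f)) := by
  haveI : Coh.IsQCoh ((tilde.functor A).obj M) := inferInstanceAs ((tilde.functor A).obj M).IsQuasicoherent
  obtain ⟨m, hm, hd⟩ := exists_lifts 𝔛 h p hp ((tilde.functor A).obj M) hcut (isAffineOpen_bO f) x
  simp only [hJ f] at hd
  exact ⟨m, hm, hd⟩

/-- The completed sections of generators generate. -/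
theorem exists_comb (f : A) {n : ℕ} (v : Fin n → M) (hv : Submodule.span A (Set.range v) = ⊤)
    (z : RM 𝔛 h (pullSys 𝔛 p hp ((tilde.functor A).obj M)) (pU 𝔛 p (bO f))) :
    ∃ γ : Fin n → O 𝔛 h (pU 𝔛 p (bO f)),
      z = ∑ i, γ i • compl 𝔛 h p hp ((tilde.functor A).obj M) (bO f) (tSec M (bO f) (v i)) := by
  let F := (tilde.functor A).obj M
  let e : Fin n → Γ(F, bO f) := fun i => tSec M (bO f) (v i)
  have he : Submodule.span Γ(Spec A, bO f) (Set.range e) = ⊤ := by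
    rw [show Set.range e = tSec M (bO f) '' Set.range v from Set.range_comp _ _]
    exact span_eq_top_of_isLocalizedModule Γ(Spec A, bO f) (Submonoid.powers f) (tSec M (bO f)) hv
  obtain ⟨m, hm, hd⟩ := exists_lifts' J 𝔛 h p hp hcut hJ M f z
  obtain ⟨c, hc⟩ := (Submodule.mem_span_range_iff_exists_fun _).mp (he ▸ Submodule.mem_top : m 0 ∈ _)
  choose a ha hda using fun k => exists_coeff_of_mem e he _ (hd k)
  let s : Fin n → ℕ → Γ(Spec A, bO f) := fun i k => c i + ∑ l ∈ Finset.range k, a l i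
  have hs : ∀ k, ∑ i, s i k • e i = m k := fun k => by
    induction k with
    | zero => simpa [s] using hc
    | succ k ih =>
      simp only [s, Finset.sum_range_succ, ← add_assoc, add_smul, Finset.sum_add_distrib] at ih ⊢
      rw [hda k, ih, add_sub_cancel]
  choose γ hγ using fun i => exists_function 𝔛 h p hp (bO f) (s i) fun k => by
    refine aW_eq_zero J 𝔛 h p hp hcut hJ ?_
    simp only [s, Finset.sum_range_succ, add_sub_add_left_eq_sub, add_sub_cancel_left]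
    exact ha k i
  refine ⟨γ, qM_ext 𝔛 h _ fun k => ?_⟩
  rw [← hm k, ← hs k, pW_sum, map_sum]
  refine Finset.sum_congr rfl fun i _ => ?_
  rw [map_smul, qM_compl, smul_LM, hγ, pW_smul]

end Affine

end Groth.L09.FCompl
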