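import Groth.Agent.L09.FCompl.Global
import Groth.Agent.L17.FSheaf.CompExact
import Mathlib.Algebra.Homology.ShortComplex.ModuleCat

/-!
# Completion of finite modules over algebras topologically of finite type is exact
-/

set_option autoImplicit false
set_option linter.style.haveILetI false
set_option linter.unusedSectionVars false
set_option backward.isDefEq.respectTransparency false
set_option backward.isDefEq.respectTransparency.types false

universe u

open CategoryTheory CategoryTheory.Limits AlgebraicGeometry TopologicalSpace Opposite AdicRing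

noncomputable section

namespace Groth.L09.FCompl

open Groth.L17.FSheaf

variable {A : CommRingCat.{u}} {J : Ideal A} {𝔛 : FSch.Sys.{u}} {h : 𝔛.IsFormal} {p : ∀ k, 𝔛.X k ⟶ Spec A}
  {hp : ∀ k, 𝔛.ι k ≫ p (k + 1) = p k} [IsClosedImmersion (p 0)]
  {𝓘 : (Spec A).IdealSheafData} (hcut : CutBy 𝔛 p 𝓘) (hJ : IsIdealOf J 𝓘)
include hcut hJ

/-- Completion of surjections. -/
theorem epi_deltaMap {M N : ModuleCat.{u} A} (v : M ⟶ N) (hv : Function.Surjective v) :
    Epi (deltaMap 𝔛 h p hp v) := by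
  refine epi_of_surjective_basis (isBasis_bO 𝔛 p) _ ?_
  rintro _ ⟨f, rfl⟩ z
  obtain ⟨m, hm, hd⟩ := exists_lifts' J 𝔛 h p hp hcut hJ N f z
  let g : Γ((tilde.functor A).obj M, bO f) →ₗ[Γ(Spec A, bO f)] Γ((tilde.functor A).obj N, bO f) :=
    { toFun := fun a => ((tilde.functor A).map v).app (bO f) a
      map_add' := fun a b => map_add _ a b
      map_smul' := fun r a => ((tilde.functor A).map v).app_smul r a }
  have hg : Function.Surjective g := surjective_tApp v hv f
  obtain ⟨a₀, ha₀⟩ := hg (m 0)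
  have hlift : ∀ k, ∃ e ∈ (J.map (algebraMap A Γ(Spec A, bO f))) ^ (k + 1) •
      (⊤ : Submodule Γ(Spec A, bO f) Γ((tilde.functor A).obj M, bO f)), g e = m (k + 1) - m k := fun k => by
    have h4 := hd k
    rw [← LinearMap.range_eq_top.2 hg, ← Submodule.map_top, ← Submodule.map_smul''] at h4
    obtain ⟨e, he, hge⟩ := h4
    exact ⟨e, he, hge⟩
  choose e he hge using hlift
  let a : ℕ → Γ((tilde.functor A).obj M, bO f) := fun k => a₀ + ∑ l ∈ Finset.range k, e l
  have hga : ∀ k, g (a k) = m k := fun k => by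
    induction k with
    | zero => simpa [a] using ha₀
    | succ k ih =>
      simp only [a, Finset.sum_range_succ, map_add] at ih ⊢
      rw [← add_assoc, ih, hge k, add_sub_cancel]
  obtain ⟨y, hy⟩ := exists_qM 𝔛 h (dSys 𝔛 p hp M) (U := pU 𝔛 p (bO f))
    (fun k => pW 𝔛 h p hp ((tilde.functor A).obj M) k (bO f) (a k)) fun k => by
      refine (tM_pW 𝔛 h p hp _ k (bO f) _).trans ?_
      rw [← sub_eq_zero, ← pW_sub, (pW_spec' J 𝔛 h p hp hcut hJ M f k).2]
      simp only [a, Finset.sum_range_succ, add_sub_add_left_eq_sub, add_sub_cancel_left]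
      exact he k
  refine ⟨y, qM_ext 𝔛 h _ fun k => ?_⟩
  refine (qM_map 𝔛 h _ k _ y).trans ?_
  rw [hy k, pW_map, ← hm k]
  exact congrArg (pW 𝔛 h p hp _ k (bO f)) (hga k)

theorem deltaMap_comp_eq_zero {M N P : ModuleCat.{u} A} (u : M ⟶ N) (v : N ⟶ P) (w : u ≫ v = 0) :
    deltaMap 𝔛 h p hp u ≫ deltaMap 𝔛 h p hp v = 0 :=
  Groth.L17.FSheaf.realModMap_pullSysMap_comp 𝔛 h p hp
    (ShortComplex.mk ((tilde.functor A).map u) ((tilde.functor A).map v)
      (by
        rw [← Functor.map_comp, w]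
        exact tilde.map_zero))

variable {R : Type u} [CommRing R] {I : Ideal R} (hR : IsBase R I) [Algebra R A] (hA : TopFiniteType R I A)
  (hIJ : J = I.map (algebraMap R A))
include hR hA hIJ

/-- Completion of finite modules is exact. -/
theorem shortExact_deltaMap (S : ShortComplex (ModuleCat.{u} A)) (hS : S.ShortExact) [Module.Finite A S.X₂]
    (w : deltaMap 𝔛 h p hp S.f ≫ deltaMap 𝔛 h p hp S.g = 0) :
    (ShortComplex.mk _ _ w).ShortExact := by
  have hinj : Function.Injective S.f := (ModuleCat.mono_iff_injective _).1 hS.mono_f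
  have hsur : Function.Surjective S.g := (ModuleCat.epi_iff_surjective _).1 hS.epi_g
  have hex : Function.Exact S.f S.g := (ShortComplex.ShortExact.moduleCat_exact_iff_function_exact S).1 hS.exact
  let F₁ := (tilde.functor A).obj S.X₁
  let F₂ := (tilde.functor A).obj S.X₂
  let φ := (tilde.functor A).map S.f
  let ψ := (tilde.functor A).map S.g
  let F := deltaMap 𝔛 h p hp S.f
  let G := deltaMap 𝔛 h p hp S.g
  have hf : ∀ f : A, Function.Injective (φ.app (bO f)) := fun f => injective_tApp S.f hinj f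
  have hmid : ∀ (f : A) (z : Γ(F₂, bO f)), ψ.app (bO f) z = 0 → ∃ a, φ.app (bO f) a = z := fun f z hz =>
    (exact_tApp S.f S.g hex f z).1 hz
  have hAR : ∀ f : A, ∃ c, ∀ N, c ≤ N → ∀ a : Γ(F₁, bO f),
      φ.app (bO f) a ∈ (J.map (algebraMap A Γ(Spec A, bO f))) ^ N • (⊤ : Submodule Γ(Spec A, bO f) Γ(F₂, bO f)) →
      a ∈ (J.map (algebraMap A Γ(Spec A, bO f))) ^ (N - c) • (⊤ : Submodule Γ(Spec A, bO f) Γ(F₁, bO f)) := by
    intro f
    letI : Algebra R Γ(Spec A, bO f) := ((algebraMap A Γ(Spec A, bO f)).comp (algebraMap R A)).toAlgebra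
    haveI : Module.Finite Γ(Spec A, bO f) Γ(F₂, bO f) := finite_sect S.X₂ f
    let L : Γ(F₁, bO f) →ₗ[Γ(Spec A, bO f)] Γ(F₂, bO f) :=
      { toFun := fun a => φ.app (bO f) a
        map_add' := fun a b => map_add _ a b
        map_smul' := fun r a => φ.app_smul r a }
    obtain ⟨c, hc⟩ := exists_ar (good_Af hR hA f) Γ(F₂, bO f) (LinearMap.range L)
    refine ⟨c, fun N hN a ha => ?_⟩
    have hJ' : J.map (algebraMap A Γ(Spec A, bO f)) = I.map (algebraMap R Γ(Spec A, bO f)) := by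
      rw [hIJ, Ideal.map_map]; rfl
    rw [hJ'] at ha ⊢
    have h1 := hc N hN ⟨ha, ⟨a, rfl⟩⟩
    rw [← Submodule.map_top, ← Submodule.map_smul''] at h1
    obtain ⟨b, hb, hba⟩ := h1
    rwa [← hf f hba]
  have hB := isBasis_bO (A := A) 𝔛 p
  haveI : Mono F := by
    refine Preadditive.mono_of_kernel_zero (hom_ext_basis hB _ _ ?_)
    rintro _ ⟨f, rfl⟩ z
    let x : RM 𝔛 h (dSys 𝔛 p hp S.X₁) (pU 𝔛 p (bO f)) := ((kernel.ι F).val.app (op (pU 𝔛 p (bO f)))).hom z
    have hx : (F.val.app (op (pU 𝔛 p (bO f)))).hom x = 0 := hom_comp_zero (kernel.condition F) _ z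
    show x = 0
    clear_value x
    obtain ⟨m, hm, hd⟩ := exists_lifts' J 𝔛 h p hp hcut hJ S.X₁ f x
    obtain ⟨c, hc⟩ := hAR f
    refine qM_ext 𝔛 h _ fun j => ?_
    rw [map_zero]
    have h4 : φ.app (bO f) (m (j + c)) ∈
        (J.map (algebraMap A Γ(Spec A, bO f))) ^ (j + c + 1) • (⊤ : Submodule Γ(Spec A, bO f) Γ(F₂, bO f)) := by
      refine ((pW_spec' J 𝔛 h p hp hcut hJ S.X₂ f _).2 _).1 ?_
      rw [← pW_map 𝔛 h p hp F₁ φ, hm]
      exact (qM_map 𝔛 h (pullSysMap 𝔛 p hp φ) (j + c) _ x).symm.trans ((congrArg _ hx).trans (map_zero _))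
    have h5 := hc (j + c + 1) (by omega) _ h4
    rw [show j + c + 1 - c = j + 1 by omega] at h5
    rw [← hm j]
    refine ((pW_spec' J 𝔛 h p hp hcut hJ S.X₁ f j).2 _).2 ?_
    rw [show m j = m (j + c) - (m (j + c) - m j) by abel]
    exact sub_mem h5 (sub_mem_pow _ hd (Nat.le_add_right j c))
  haveI : Epi G := epi_deltaMap hcut hJ S.g hsur
  haveI : Epi (kernel.lift G F w) := by
    refine epi_of_surjective_basis hB _ ?_
    rintro _ ⟨f, rfl⟩ z
    let x : RM 𝔛 h (dSys 𝔛 p hp S.X₂) (pU 𝔛 p (bO f)) := ((kernel.ι G).val.app (op (pU 𝔛 p (bO f)))).hom z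
    have hx : (G.val.app (op (pU 𝔛 p (bO f)))).hom x = 0 := hom_comp_zero (kernel.condition G) _ z
    suffices ∃ y : RM 𝔛 h (dSys 𝔛 p hp S.X₁) (pU 𝔛 p (bO f)), (F.val.app (op (pU 𝔛 p (bO f)))).hom y = x by
      obtain ⟨y, hy⟩ := this
      refine ⟨y, (exists_kernel_sect G _).2 ?_⟩
      exact (LinearMap.congr_fun (congrArg (fun t => ((t : delta 𝔛 h p hp S.X₁ ⟶ _).val.app (op (pU 𝔛 p (bO f)))).hom)
        (kernel.lift_ι G F w)) y).trans hy
    clear_value x
    obtain ⟨m, hm, hd⟩ := exists_lifts' J 𝔛 h p hp hcut hJ S.X₂ f x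
    obtain ⟨c, hc⟩ := hAR f
    let gL : Γ(F₂, bO f) →ₗ[Γ(Spec A, bO f)] Γ((tilde.functor A).obj S.X₃, bO f) :=
      { toFun := fun a => ψ.app (bO f) a
        map_add' := fun a b => map_add _ a b
        map_smul' := fun r a => ψ.app_smul r a }
    have ha : ∀ k, ∃ a : Γ(F₁, bO f), m k - φ.app (bO f) a ∈
        (J.map (algebraMap A Γ(Spec A, bO f))) ^ (k + 1) • (⊤ : Submodule Γ(Spec A, bO f) Γ(F₂, bO f)) := fun k => by
      have h4 : gL (m k) ∈ ((J.map (algebraMap A Γ(Spec A, bO f))) ^ (k + 1) •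
          (⊤ : Submodule Γ(Spec A, bO f) Γ(F₂, bO f))).map gL := by
        have hgs : LinearMap.range gL = ⊤ := LinearMap.range_eq_top.2 (surjective_tApp S.g hsur f)
        rw [Submodule.map_smul'', Submodule.map_top, hgs]
        refine ((pW_spec' J 𝔛 h p hp hcut hJ S.X₃ f k).2 _).1 ?_
        show pW 𝔛 h p hp _ k (bO f) (ψ.app (bO f) (m k)) = 0
        rw [← pW_map 𝔛 h p hp F₂ ψ, hm]
        exact (qM_map 𝔛 h (pullSysMap 𝔛 p hp ψ) k _ x).symm.trans ((congrArg _ hx).trans (map_zero _))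
      obtain ⟨z, hz, hzm⟩ := h4
      obtain ⟨a, hfa⟩ := hmid f (m k - z) (by
        show gL (m k - z) = 0
        rw [map_sub, hzm, sub_self])
      exact ⟨a, by rwa [hfa, sub_sub_cancel]⟩
    choose a ha using ha
    have hda : ∀ j, a (j + c + 1) - a (j + c) ∈
        (J.map (algebraMap A Γ(Spec A, bO f))) ^ (j + 1) • (⊤ : Submodule Γ(Spec A, bO f) Γ(F₁, bO f)) := by
      intro j
      have h4 : φ.app (bO f) (a (j + c + 1) - a (j + c)) ∈
          (J.map (algebraMap A Γ(Spec A, bO f))) ^ (j + c + 1) • (⊤ : Submodule Γ(Spec A, bO f) Γ(F₂, bO f)) := by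
        rw [map_sub, show φ.app (bO f) (a (j + c + 1)) - φ.app (bO f) (a (j + c)) =
          (m (j + c + 1) - m (j + c)) - (m (j + c + 1) - φ.app (bO f) (a (j + c + 1))) +
            (m (j + c) - φ.app (bO f) (a (j + c))) by abel]
        exact add_mem (sub_mem (hd (j + c))
          (Submodule.smul_mono (Ideal.pow_le_pow_right (by omega)) le_rfl (ha (j + c + 1)))) (ha (j + c))
      have h5 := hc _ (by omega) _ h4
      rwa [show j + c + 1 - c = j + 1 by omega] at h5
    obtain ⟨y, hy⟩ := exists_qM 𝔛 h (dSys 𝔛 p hp S.X₁) (U := pU 𝔛 p (bO f))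
      (fun j => pW 𝔛 h p hp F₁ j (bO f) (a (j + c))) (fun j => by
      refine (tM_pW 𝔛 h p hp F₁ j (bO f) _).trans ?_
      rw [← sub_eq_zero, ← pW_sub, show j + 1 + c = j + c + 1 by omega]
      exact ((pW_spec' J 𝔛 h p hp hcut hJ S.X₁ f j).2 _).2 (hda j))
    refine ⟨y, qM_ext 𝔛 h _ fun j => ?_⟩
    refine (qM_map 𝔛 h (pullSysMap 𝔛 p hp φ) j _ y).trans ?_
    rw [hy j, pW_map]
    refine Eq.trans ?_ (hm j)
    rw [← sub_eq_zero, ← pW_sub]
    refine ((pW_spec' J 𝔛 h p hp hcut hJ S.X₂ f j).2 _).2 ?_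
    rw [show φ.app (bO f) (a (j + c)) - m j = (m (j + c) - m j) - (m (j + c) - φ.app (bO f) (a (j + c))) by abel]
    exact sub_mem (sub_mem_pow _ hd (Nat.le_add_right j c))
      (Submodule.smul_mono (Ideal.pow_le_pow_right (by omega)) le_rfl (ha (j + c)))
  exact { exact := (ShortComplex.exact_iff_epi_kernel_lift (ShortComplex.mk F G w)).2 ‹_›
          mono_f := ‹Mono F›
          epi_g := ‹Epi G› }

/-- Short exactness is detected on completions of finite modules. -/
theorem shortExact_of_deltaMap {M₁ M₂ M₃ : ModuleCat.{u} A} [Module.Finite A M₁] [Module.Finite A M₂]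
    [Module.Finite A M₃] (u : M₁ ⟶ M₂) (v : M₂ ⟶ M₃)
    (hΔ : ∃ w : deltaMap 𝔛 h p hp u ≫ deltaMap 𝔛 h p hp v = 0, (ShortComplex.mk _ _ w).ShortExact) :
    ∃ w : u ≫ v = 0, (ShortComplex.mk u v w).ShortExact := by
  obtain ⟨w, hw⟩ := hΔ
  have hc : ∀ (N : ModuleCat.{u} A) [Module.Finite A N], Function.Bijective (cmap 𝔛 h p hp N) := fun N _ =>
    haveI : IsAdicComplete J N := hIJ ▸ isAdicComplete_finite hR hA N
    bijective_cmap J 𝔛 h p hp hcut hJ
  haveI := hw.mono_f
  haveI := hw.epi_g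
  let U := pU 𝔛 p (bO (1 : A))
  have huv : u ≫ v = 0 := by
    ext x
    refine (hc M₃).1 ?_
    refine ((deltaMap_cmap 𝔛 h p hp v (u x)).symm.trans (congrArg _ (deltaMap_cmap 𝔛 h p hp u x).symm)).trans ?_
    refine (hom_comp_zero w _ _).trans ?_
    refine qM_ext 𝔛 h _ fun k => ?_
    rw [map_zero]
    refine Eq.symm ((qM_compl 𝔛 h p hp _ _ _ k).trans (((pW_spec' J 𝔛 h p hp hcut hJ M₃ 1 k).2 _).2 ?_))
    exact (map_zero (tSec M₃ (bO (1 : A)))).symm ▸ Submodule.zero_mem _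
  have hinjF : Function.Injective ((deltaMap 𝔛 h p hp u).val.app (op U)).hom := by
    refine (injective_iff_map_eq_zero _).2 fun a ha => ?_
    obtain ⟨k, hk⟩ := (exists_kernel_sect (deltaMap 𝔛 h p hp u) (op U)).1 a ha
    rw [show kernel.ι (deltaMap 𝔛 h p hp u) = 0 from kernel.ι_of_mono _] at hk
    exact hk.symm
  have hinj : Function.Injective u := fun x y hxy => (hc M₁).1 (hinjF
    ((deltaMap_cmap 𝔛 h p hp u x).trans ((congrArg _ hxy).trans (deltaMap_cmap 𝔛 h p hp u y).symm)))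
  have hex : Function.Exact u v := by
    refine fun x => ⟨fun hx => ?_, ?_⟩
    · obtain ⟨k, hk⟩ := (exists_kernel_sect (deltaMap 𝔛 h p hp v) (op U)).1 (cmap 𝔛 h p hp M₂ x) (by
        refine (deltaMap_cmap 𝔛 h p hp v x).trans ?_
        rw [show v x = v (u 0) by rw [hx]; simp]
        exact ((deltaMap_cmap 𝔛 h p hp v (u 0)).symm.trans (congrArg _ (deltaMap_cmap 𝔛 h p hp u 0).symm)).trans
          (hom_comp_zero w _ _))
      let e : kernel (deltaMap 𝔛 h p hp v) ≅ delta 𝔛 h p hp M₁ :=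
        (kernelIsKernel (deltaMap 𝔛 h p hp v)).conePointUniqueUpToIso hw.fIsKernel
      obtain ⟨y, hy⟩ := (hc M₁).2 ((e.hom.val.app (op U)).hom k)
      refine ⟨y, (hc M₂).1 ?_⟩
      refine (deltaMap_cmap 𝔛 h p hp u y).symm.trans ((congrArg _ hy).trans (Eq.trans ?_ hk))
      exact LinearMap.congr_fun (congrArg (fun t : kernel (deltaMap 𝔛 h p hp v) ⟶ delta 𝔛 h p hp M₂ =>
        (t.val.app (op U)).hom) (IsLimit.conePointUniqueUpToIso_hom_comp (kernelIsKernel (deltaMap 𝔛 h p hp v))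
          hw.fIsKernel WalkingParallelPair.zero)) k
    · rintro ⟨y, rfl⟩
      exact LinearMap.congr_fun (congrArg ModuleCat.Hom.hom huv) y
  have hsur : Function.Surjective v := by
    let π : M₃ ⟶ ModuleCat.of A (M₃ ⧸ LinearMap.range v.hom) := ModuleCat.ofHom (LinearMap.range v.hom).mkQ
    haveI : Module.Finite A (M₃ ⧸ LinearMap.range v.hom) :=
      Module.Finite.of_surjective _ (Submodule.mkQ_surjective _)
    have h0 : deltaMap 𝔛 h p hp π = 0 := by
      rw [← cancel_epi (deltaMap 𝔛 h p hp v), comp_zero]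
      exact deltaMap_comp_eq_zero hcut hJ v π (by ext x; exact (Submodule.Quotient.mk_eq_zero _).2 ⟨x, rfl⟩)
    have hπ : ∀ z, π z = 0 := fun z => (hc (ModuleCat.of A (M₃ ⧸ LinearMap.range v.hom))).1 (by
      refine (deltaMap_cmap 𝔛 h p hp π z).symm.trans (Eq.trans ?_ ((deltaMap_cmap 𝔛 h p hp π 0).trans
        (congrArg _ (map_zero π.hom))))
      rw [h0]
      rfl)
    exact fun z => (Submodule.Quotient.mk_eq_zero _).1 (hπ z)
  refine ⟨huv, ?_⟩
  haveI : Mono (ShortComplex.mk u v huv).f := (ModuleCat.mono_iff_injective u).2 hinj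
  haveI : Epi (ShortComplex.mk u v huv).g := (ModuleCat.epi_iff_surjective v).2 hsur
  exact { exact := (ShortComplex.ShortExact.moduleCat_exact_iff_function_exact _).2 hex }

end Groth.L09.FCompl
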