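import Groth.Agent.L09.FCompl.Comp
import Mathlib.RingTheory.AdicCompletion.Algebra
import Mathlib.RingTheory.AdicCompletion.Completeness

/-!
# The functions on the basic opens of a formal spectrum
-/

set_option autoImplicit false
set_option linter.style.haveILetI false
set_option linter.unusedSectionVars false
set_option backward.isDefEq.respectTransparency false
set_option backward.isDefEq.respectTransparency.types false

universe u

open CategoryTheory CategoryTheory.Limits AlgebraicGeometry TopologicalSpace Opposite AdicRing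

noncomputable section

namespace Groth.L09.FCompl

open Groth.L17.FSheaf
open Groth.L05.Bosch (Good topFiniteType_completion)

variable {A : CommRingCat.{u}} {J : Ideal A} {𝔛 : FSch.Sys.{u}} {h : 𝔛.IsFormal} {p : ∀ k, 𝔛.X k ⟶ Spec A}
  {hp : ∀ k, 𝔛.ι k ≫ p (k + 1) = p k} [IsClosedImmersion (p 0)]
  {𝓘 : (Spec A).IdealSheafData} (hcut : CutBy 𝔛 p 𝓘) (hJ : IsIdealOf J 𝓘)
include hp hcut hJ

theorem aW_spec (f : A) (k : ℕ) :
    Function.Surjective (aW 𝔛 h p hp k (bO f)) ∧
      RingHom.ker (aW 𝔛 h p hp k (bO f)) = (J.map (algebraMap A Γ(Spec A, bO f))) ^ (k + 1) := by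
  have hUeq : 𝔛.lvU h k (pU 𝔛 p (bO f)) = p k ⁻¹ᵁ bO f := (FSch.lvU_p 𝔛 h p hp k (bO f)).symm
  have hk := (ker_appLE (p k) hUeq).trans (hcut k ⟨bO f, isAffineOpen_bO f⟩).2
  rw [hJ f] at hk
  exact ⟨appLE_surjective_of_eq (p k) hUeq (hcut k ⟨bO f, isAffineOpen_bO f⟩).1, hk⟩

variable {R : Type u} [CommRing R] {I : Ideal R} (hR : IsBase R I) [Algebra R A] (hA : TopFiniteType R I A)
  (hIJ : J = I.map (algebraMap R A))
include hR hA hIJ

set_option maxHeartbeats 400000 in
/-- The functions on a basic open form a good complete ring. -/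
theorem O_spec' (f : A) :
    (∀ k, RingHom.ker (pR 𝔛 h k (pU 𝔛 p (bO f))) = Groth.L17.FSheaf.J 𝔛 h (pU 𝔛 p (bO f)) ^ (k + 1)) ∧
      ∀ (M : Type u) [AddCommGroup M] [Module (O 𝔛 h (pU 𝔛 p (bO f))) M]
        [Module.Finite (O 𝔛 h (pU 𝔛 p (bO f))) M],
        IsAdicComplete (Groth.L17.FSheaf.J 𝔛 h (pU 𝔛 p (bO f))) M := by
  let U := pU 𝔛 p (bO f)
  let C : Type u := Γ(Spec A, bO f)
  letI : Algebra R C := ((algebraMap A C).comp (algebraMap R A)).toAlgebra
  haveI : IsScalarTower R A C := IsScalarTower.of_algebraMap_eq fun _ => rfl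
  haveI : Algebra.FiniteType A C := finiteType_Af f
  let K : Ideal C := I.map (algebraMap R C)
  have hK : J.map (algebraMap A C) = K := by
    rw [hIJ, Ideal.map_map]; rfl
  have hKfg : K.FG := (Groth.L05.Bosch.isBase_fg hR).map _
  have hq : ∀ k, RingHom.ker (aW 𝔛 h p hp k (bO f)) = K ^ (k + 1) := fun k => by
    rw [← hK]; exact (aW_spec hcut hJ f k).2
  let Ch : Type u := AdicCompletion K C
  let l : ∀ k, Ch →+* Γ(𝔛.X k, 𝔛.lvU h k U) := fun k =>
    (Ideal.Quotient.lift (K ^ (k + 1)) (aW 𝔛 h p hp k (bO f)) (fun a ha => (hq k).ge ha)).comp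
      (AdicCompletion.evalₐ K (k + 1)).toRingHom
  have hl : ∀ k (a : AdicCompletion.AdicCauchySequence K C),
      l k (AdicCompletion.mk K C a) = aW 𝔛 h p hp k (bO f) (a.val (k + 1)) := fun k a => by
    show Ideal.Quotient.lift (K ^ (k + 1)) (aW 𝔛 h p hp k (bO f)) (fun a ha => (hq k).ge ha)
      (AdicCompletion.evalₐ K (k + 1) (AdicCompletion.mk K C a)) = _
    rw [AdicCompletion.evalₐ_mk, Ideal.Quotient.lift_mk]
  have hlt : ∀ k x, tR 𝔛 h k U (l (k + 1) x) = l k x := fun k x => by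
    obtain ⟨a, rfl⟩ := AdicCompletion.mk_surjective K C x
    rw [hl, hl, tR_aW, ← sub_eq_zero, ← map_sub, ← RingHom.mem_ker, hq]
    have h1 := SModEq.sub_mem.1 (a.property (show k + 1 ≤ k + 1 + 1 by omega))
    rw [smul_eq_mul, Ideal.mul_top] at h1
    rw [← neg_sub]
    exact neg_mem h1
  choose φ₀ hφ₀ using fun x : Ch => exists_pR 𝔛 h U (fun k => l k x) (fun k => hlt k x)
  let φ : Ch →+* O 𝔛 h U :=
    { toFun := φ₀
      map_one' := pR_ext 𝔛 h fun k => by rw [hφ₀, map_one, map_one]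
      map_mul' := fun x y => pR_ext 𝔛 h fun k => by rw [hφ₀, map_mul, map_mul, hφ₀, hφ₀]
      map_zero' := pR_ext 𝔛 h fun k => by rw [hφ₀, map_zero, map_zero]
      map_add' := fun x y => pR_ext 𝔛 h fun k => by rw [hφ₀, map_add, map_add, hφ₀, hφ₀] }
  have hφ : Function.Surjective φ := fun γ => by
    choose c hc using fun k => (aW_spec hcut hJ f k).1 (pR 𝔛 h k U γ)
    have hd : ∀ k, c k - c (k + 1) ∈ K ^ (k + 1) := fun k => by
      rw [← hq k, RingHom.mem_ker, map_sub, sub_eq_zero, hc k, ← tR_pR, ← hc (k + 1)]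
      exact tR_aW 𝔛 h p hp k (bO f) (c (k + 1))
    let a : AdicCompletion.AdicCauchySequence K C := AdicCompletion.AdicCauchySequence.mk K C (fun n => c (n - 1))
      fun n => SModEq.sub_mem.2 (by
        rcases n with _ | n
        · rw [pow_zero, Ideal.one_eq_top, Submodule.top_smul]
          trivial
        · rw [smul_eq_mul, Ideal.mul_top]
          exact hd n)
    refine ⟨AdicCompletion.mk K C a, pR_ext 𝔛 h fun k => ?_⟩
    show pR 𝔛 h k U (φ₀ _) = _
    rw [hφ₀, hl]
    exact hc k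
  let KC : Ideal Ch := K.map (algebraMap C Ch)
  have hker : ∀ k, RingHom.ker (pR 𝔛 h k U) = (KC.map φ) ^ (k + 1) := by
    intro k
    rw [← Ideal.map_pow, ← Ideal.map_pow (f := algebraMap C Ch)]
    refine le_antisymm (fun γ hγ => ?_) ?_
    · obtain ⟨x, rfl⟩ := hφ γ
      refine Ideal.mem_map_of_mem φ ?_
      obtain ⟨a, ha⟩ := AdicCompletion.mk_surjective K C x
      have h1 : l k x = 0 := (hφ₀ x k).symm.trans hγ
      rw [← ha, hl, ← RingHom.mem_ker, hq] at h1
      have h2 : x ∈ K ^ (k + 1) • (⊤ : Submodule C Ch) := by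
        rw [AdicCompletion.pow_smul_top_eq_ker_eval hKfg, LinearMap.mem_ker, ← ha]
        show (K ^ (k + 1) • (⊤ : Submodule C C)).mkQ (a.val (k + 1)) = 0
        rwa [Submodule.mkQ_apply, Submodule.Quotient.mk_eq_zero, smul_eq_mul, Ideal.mul_top]
      rw [Ideal.smul_top_eq_map, Submodule.restrictScalars_mem] at h2
      exact h2
    · rw [Ideal.map_le_iff_le_comap, Ideal.map_le_iff_le_comap]
      intro c hc
      show pR 𝔛 h k U (φ₀ (algebraMap C Ch c)) = 0
      rw [hφ₀]
      show Ideal.Quotient.lift (K ^ (k + 1)) (aW 𝔛 h p hp k (bO f)) (fun a ha => (hq k).ge ha)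
        (AdicCompletion.evalₐ K (k + 1) (algebraMap C Ch c)) = 0
      rw [AlgHom.commutes, Ideal.Quotient.algebraMap_eq, Ideal.Quotient.lift_mk, ← RingHom.mem_ker, hq]
      exact hc
  have hJ0 : Groth.L17.FSheaf.J 𝔛 h U = KC.map φ := (hker 0).trans (by rw [zero_add, pow_one])
  refine ⟨fun k => by rw [hJ0]; exact hker k, ?_⟩
  intro M _ _ _
  have hT : TopFiniteType R I Ch := topFiniteType_completion hR hA C
  letI : Algebra Ch (O 𝔛 h U) := φ.toAlgebra
  letI : Module Ch M := Module.compHom M φ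
  haveI : IsScalarTower Ch (O 𝔛 h U) M := IsScalarTower.of_algebraMap_smul fun _ _ => rfl
  haveI : Module.Finite Ch (O 𝔛 h U) := Module.Finite.of_surjective (Algebra.linearMap Ch (O 𝔛 h U)) hφ
  haveI : Module.Finite Ch M := Module.Finite.trans (O 𝔛 h U) M
  haveI hc := isAdicComplete_finite hR hT M
  rw [show I.map (algebraMap R Ch) = KC by
    simp only [KC, K]
    rw [Ideal.map_map, ← IsScalarTower.algebraMap_eq]] at hc
  rw [hJ0]
  exact (IsAdicComplete.map_algebraMap_iff (S := O 𝔛 h U) KC M).mpr hc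

end Groth.L09.FCompl
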