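import Groth.Agent.L09.FCompl.Comp

/-!
# Completion on global sections and morphisms of completions
-/

set_option autoImplicit false
set_option linter.style.haveILetI false
set_option linter.unusedSectionVars false
set_option backward.isDefEq.respectTransparency false
set_option backward.isDefEq.respectTransparency.types false

universe u

open CategoryTheory CategoryTheory.Limits AlgebraicGeometry TopologicalSpace Opposite

noncomputable section

namespace Groth.L09.FCompl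

open Groth.L17.FSheaf
open Groth.L18.Frame (rs)

variable {A : CommRingCat.{u}} (J : Ideal A) (𝔛 : FSch.Sys.{u}) (h : 𝔛.IsFormal) (p : ∀ k, 𝔛.X k ⟶ Spec A)
  (hp : ∀ k, 𝔛.ι k ≫ p (k + 1) = p k) [IsClosedImmersion (p 0)]

/-- The system of a module. -/
abbrev dSys (M : ModuleCat.{u} A) : FSch.ModSys 𝔛 := pullSys 𝔛 p hp ((tilde.functor A).obj M)

/-- The completion of a module as a sheaf. -/
abbrev delta (M : ModuleCat.{u} A) : FSch.ModF 𝔛 h := (dSys 𝔛 p hp M).realMod h

/-- The completion of a map. -/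
abbrev deltaMap {M N : ModuleCat.{u} A} (u : M ⟶ N) : delta 𝔛 h p hp M ⟶ delta 𝔛 h p hp N :=
  FSch.ModSys.realModMap h (pullSysMap 𝔛 p hp ((tilde.functor A).map u))

/-- The completed global section of an element. -/
def cmap (M : ModuleCat.{u} A) (x : M) : RM 𝔛 h (dSys 𝔛 p hp M) (pU 𝔛 p (bO (1 : A))) :=
  compl 𝔛 h p hp ((tilde.functor A).obj M) (bO (1 : A)) (tSec M (bO (1 : A)) x)

theorem deltaMap_cmap {M N : ModuleCat.{u} A} (u : M ⟶ N) (x : M) :
    ((deltaMap 𝔛 h p hp u).val.app (op (pU 𝔛 p (bO (1 : A))))).hom (cmap 𝔛 h p hp M x) =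
      cmap 𝔛 h p hp N (u x) :=
  (map_compl 𝔛 h p hp _ _ _ _).trans (congrArg (compl 𝔛 h p hp ((tilde.functor A).obj N) (bO (1 : A)))
    (tApp_tSec u (bO (1 : A)) x))

theorem cmap_add (M : ModuleCat.{u} A) (x y : M) :
    cmap 𝔛 h p hp M (x + y) = cmap 𝔛 h p hp M x + cmap 𝔛 h p hp M y := by
  refine qM_ext 𝔛 h _ fun k => ?_
  letI := Module.compHom Γ((Scheme.Modules.pullback (p k)).obj ((tilde.functor A).obj M),
    𝔛.lvU h k (pU 𝔛 p (bO (1 : A)))) (aW 𝔛 h p hp k (bO (1 : A)))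
  rw [map_add, cmap, cmap, cmap, qM_compl, qM_compl, qM_compl, map_add]
  exact map_add (Groth.L16.AffineBC.pullRes (p k) ((tilde.functor A).obj M) (pU_le 𝔛 h p hp k (bO (1 : A)))) _ _

theorem cmap_smul (r : A) : ∃ γ : O 𝔛 h (pU 𝔛 p (bO (1 : A))), ∀ (M : ModuleCat.{u} A) (x : M),
    cmap 𝔛 h p hp M (r • x) = γ • cmap 𝔛 h p hp M x := by
  obtain ⟨γ, hγ⟩ := exists_function 𝔛 h p hp (bO (1 : A)) (fun _ => algebraMap A Γ(Spec A, bO (1 : A)) r)
    fun k => by rw [sub_self, map_zero]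
  refine ⟨γ, fun M x => qM_ext 𝔛 h _ fun k => ?_⟩
  rw [map_smul, cmap, cmap, qM_compl, qM_compl, smul_LM, hγ, ← pW_smul]
  congr 1
  rw [map_smul, algebraMap_smul]

theorem bijective_tSec_one (M : ModuleCat.{u} A) : Function.Bijective (tSec M (bO (1 : A))) := by
  have h1 : ∀ W : (Spec A).Opens, W = ⊤ → Function.Bijective (tSec M W) := by
    rintro _ rfl
    exact bijective_tSec_top M
  exact h1 _ bO_one

variable {M : ModuleCat.{u} A}

theorem tSec_mem_iff (n : ℕ) (x : M) :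
    tSec M (bO (1 : A)) x ∈ (J.map (algebraMap A Γ(Spec A, bO (1 : A)))) ^ n •
        (⊤ : Submodule Γ(Spec A, bO (1 : A)) Γ((tilde.functor A).obj M, bO (1 : A))) ↔
      x ∈ J ^ n • (⊤ : Submodule A M) := by
  have hb := bijective_tSec_one M
  have h1 : (J ^ n • (⊤ : Submodule A M)).map (tSec M (bO (1 : A))) =
      ((J.map (algebraMap A Γ(Spec A, bO (1 : A)))) ^ n •
        (⊤ : Submodule Γ(Spec A, bO (1 : A)) Γ((tilde.functor A).obj M, bO (1 : A)))).restrictScalars A := by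
    rw [← Ideal.map_pow, Ideal.smul_restrictScalars, Submodule.map_smul'', Submodule.map_top,
      LinearMap.range_eq_top.2 hb.2, Submodule.restrictScalars_top]
  constructor
  · intro hx
    have h2 : tSec M (bO (1 : A)) x ∈ (J ^ n • (⊤ : Submodule A M)).map (tSec M (bO (1 : A))) := h1.ge hx
    obtain ⟨y, hy, hyx⟩ := h2
    rwa [← hb.1 hyx]
  · intro hx
    exact h1.le (Submodule.mem_map_of_mem hx)

variable {𝓘 : (Spec A).IdealSheafData} (hcut : CutBy 𝔛 p 𝓘) (hJ : IsIdealOf J 𝓘)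
include hcut hJ

theorem pW_eq_iff (x y : M) (k : ℕ) :
    pW 𝔛 h p hp ((tilde.functor A).obj M) k (bO (1 : A)) (tSec M (bO (1 : A)) x) =
        pW 𝔛 h p hp ((tilde.functor A).obj M) k (bO (1 : A)) (tSec M (bO (1 : A)) y) ↔
      x - y ∈ J ^ (k + 1) • (⊤ : Submodule A M) := by
  rw [← sub_eq_zero, ← pW_sub, ← map_sub, (pW_spec' J 𝔛 h p hp hcut hJ M 1 k).2, tSec_mem_iff]

/-- Complete modules are the global sections of their completions. -/
theorem bijective_cmap [IsAdicComplete J M] : Function.Bijective (cmap 𝔛 h p hp M) := by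
  refine ⟨fun x y hxy => ?_, fun z => ?_⟩
  · rw [← sub_eq_zero]
    refine IsHausdorff.haus ‹IsAdicComplete J M›.toIsHausdorff _ fun n => SModEq.zero.2 ?_
    refine Submodule.smul_mono (Ideal.pow_le_pow_right (Nat.le_succ n)) le_rfl ((pW_eq_iff J 𝔛 h p hp hcut hJ x y n).1 ?_)
    rw [← qM_compl, ← qM_compl]
    exact congrArg _ hxy
  · obtain ⟨m, hm, hd⟩ := exists_lifts' J 𝔛 h p hp hcut hJ M 1 z
    choose x hx using fun k => (bijective_tSec_one M).2 (m k)
    have hdx : ∀ k, x (k + 1) - x k ∈ J ^ (k + 1) • (⊤ : Submodule A M) := fun k =>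
      (tSec_mem_iff J (k + 1) _).1 (by rw [map_sub, hx, hx]; exact hd k)
    obtain ⟨L, hL⟩ := IsPrecomplete.prec ‹IsAdicComplete J M›.toIsPrecomplete (f := x) (fun {i j} hij => by
      refine (SModEq.sub_mem.2 ?_).symm
      exact Submodule.smul_mono (Ideal.pow_le_pow_right (Nat.le_succ i)) le_rfl (sub_mem_pow J hdx hij))
    refine ⟨L, qM_ext 𝔛 h _ fun k => ?_⟩
    rw [cmap, qM_compl, ← hm k, ← hx k, pW_eq_iff J 𝔛 h p hp hcut hJ]
    rw [show L - x k = (x (k + 1) - x k) - (x (k + 1) - L) by abel]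
    exact sub_mem (hdx k) (SModEq.sub_mem.1 (hL (k + 1)))

/-- Completion is fully faithful on finite modules. -/
theorem bijective_deltaMap (M N : ModuleCat.{u} A) [Module.Finite A M] [IsAdicComplete J N] :
    Function.Bijective (fun u : M ⟶ N => deltaMap 𝔛 h p hp u) := by
  have hb := bijective_cmap J 𝔛 h p hp hcut hJ (M := N)
  refine ⟨fun u v huv => ?_, fun φ => ?_⟩
  · ext x
    refine hb.1 ((deltaMap_cmap 𝔛 h p hp u x).symm.trans (Eq.trans ?_ (deltaMap_cmap 𝔛 h p hp v x)))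
    exact congrArg (fun t : delta 𝔛 h p hp M ⟶ delta 𝔛 h p hp N => (t.val.app _).hom _) huv
  let Φ := (φ.val.app (op (pU 𝔛 p (bO (1 : A))))).hom
  choose g hg using fun x => hb.2 (Φ (cmap 𝔛 h p hp M x))
  let u : M →ₗ[A] N :=
    { toFun := g
      map_add' := fun x y => hb.1 (by
        rw [cmap_add, hg, hg, hg, cmap_add]
        exact map_add Φ _ _)
      map_smul' := fun r x => hb.1 (by
        obtain ⟨γ, hγ⟩ := cmap_smul 𝔛 h p hp r
        rw [RingHom.id_apply, hγ, hg, hg, hγ]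
        exact map_smul Φ γ _) }
  refine ⟨ModuleCat.ofHom u, hom_ext_basis (isBasis_bO 𝔛 p) _ _ ?_⟩
  rintro _ ⟨f, rfl⟩ z
  obtain ⟨n, v, hv⟩ := Module.Finite.exists_fin (R := A) (M := M)
  obtain ⟨γ, rfl⟩ := exists_comb J 𝔛 h p hp hcut hJ M f v hv z
  refine (map_sum _ _ _).trans (Eq.trans ?_ (map_sum _ _ _).symm)
  refine Finset.sum_congr rfl fun i _ => (map_smul _ _ _).trans (Eq.trans ?_ (map_smul _ _ _).symm)
  refine congrArg (γ i • ·) ?_
  rw [show tSec M (bO f) (v i) = rs _ (le_bO_one (bO f)) (tSec M (bO (1 : A)) (v i)) from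
    (tSec_res M (le_bO_one (bO f)) (v i)).symm, ← res_compl]
  refine (PresheafOfModules.naturality_apply (deltaMap 𝔛 h p hp (ModuleCat.ofHom u)).val
    (homOfLE ((p 0).preimage_mono (le_bO_one (bO f)))).op (cmap 𝔛 h p hp M (v i))).trans
    (Eq.trans ?_ (PresheafOfModules.naturality_apply φ.val
    (homOfLE ((p 0).preimage_mono (le_bO_one (bO f)))).op (cmap 𝔛 h p hp M (v i))).symm)
  exact congrArg _ ((deltaMap_cmap 𝔛 h p hp (ModuleCat.ofHom u) (v i)).trans (hg (v i)))

end Groth.L09.FCompl
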