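import Groth.Agent.L17.FSheaf.CanonSys

/-!
# The inverse images of a finitely presented module to the levels
-/

set_option autoImplicit false
set_option linter.style.haveILetI false
set_option linter.unusedSectionVars false
set_option backward.isDefEq.respectTransparency false
set_option backward.isDefEq.respectTransparency.types false

universe u

open CategoryTheory CategoryTheory.Limits AlgebraicGeometry TopologicalSpace Opposite

noncomputable section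

namespace Groth.L09.FCompl

open Groth.L17.FSheaf

variable {𝔛 : FSch.Sys.{u}} {h : 𝔛.IsFormal} {𝔉 : FSch.ModF 𝔛 h} (h𝔉 : FSch.IsCohF 𝔛 h 𝔉)
include h𝔉

/-- The members of a basis with a presentation form a basis. -/
theorem isBasis_locPres {B : Set (Opens (𝔛.X 0))} (hB : Opens.IsBasis B) :
    Opens.IsBasis {U ∈ B | ∃ (n m : ℕ) (s : Fin n → SF 𝔛 h 𝔉 U) (r : Fin m → Fin n → O 𝔛 h U),
      LocPres (R := ModSite.ringSh (𝔛.Osh h)) 𝔉 s r} := by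
  refine Opens.isBasis_iff_nbhd.2 fun {W x} hx => ?_
  haveI : SheafOfModules.IsFinitePresentation (R := ModSite.ringSh (𝔛.Osh h)) 𝔉 := h𝔉
  obtain ⟨U, hxU, n, m, s, r, hp⟩ := exists_locPres (R := ModSite.ringSh (𝔛.Osh h)) 𝔉 x
  obtain ⟨V, hV, hxV, hVW⟩ := Opens.isBasis_iff_nbhd.1 hB (show x ∈ W ⊓ U from ⟨hx, hxU⟩)
  exact ⟨V, ⟨hV, n, m, _, _, hp.restrict (hVW.trans inf_le_right)⟩, hxV, hVW.trans inf_le_left⟩

/-- The inverse images to the levels are of finite presentation. -/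
theorem isFP_LF (k : ℕ) : CohB1.IsFP (LF 𝔛 h 𝔉 k) := Groth.L19.isFP_of_tilde_charts _ fun x => by
  obtain ⟨U, ⟨hU, n, m, s, r, hp⟩, hxU, -⟩ := Opens.isBasis_iff_nbhd.1
    (isBasis_locPres h𝔉 (𝔛.X 0).isBasis_affineOpens) (Opens.mem_top ((𝔛.gInv h k) x))
  obtain ⟨-, -, N, hN, hiso⟩ := level_spec 𝔛 h k hp (isAffineOpen_lvU 𝔛 h hU k)
  refine ⟨_, (isAffineOpen_lvU 𝔛 h hU k).fromSpec, inferInstance, N, ?_, hN, hiso⟩
  rw [IsAffineOpen.opensRange_fromSpec]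
  exact hxU

theorem isCoh_canonSys' : (canonSys 𝔛 h 𝔉).IsCoh := fun k => by
  haveI : SheafOfModules.IsFinitePresentation (R := (𝔛.X k).ringCatSheaf) (LF 𝔛 h 𝔉 k) := isFP_LF h𝔉 k
  show Coh.IsCoh (LF 𝔛 h 𝔉 k)
  exact ⟨inferInstance, inferInstance⟩

omit h𝔉 in
theorem qM_toCanon' (k : ℕ) (U : (𝔛.X 0).Opens) (x : SF 𝔛 h 𝔉 U) :
    (qM 𝔛 h (canonSys 𝔛 h 𝔉) k U (((toCanon 𝔛 h 𝔉).val.app (op U)).hom x) :
      Γ(LF 𝔛 h 𝔉 k, 𝔛.lvU h k U)) = ηF 𝔛 h 𝔉 k U x :=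
  LinearMap.congr_fun (congrArg (fun t => ((t : 𝔉 ⟶ _).val.app (op U)).hom) (toCanon_proj 𝔛 h 𝔉 k)) x

end Groth.L09.FCompl
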