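import Groth.Agent.L09.FCompl.Alg
import Groth.Agent.L17.FSheaf.SpfModules

/-!
# Systems of finitely presented modules on a formal spectrum come from finitely presented modules
-/

set_option autoImplicit false
set_option linter.style.haveILetI false
set_option linter.unusedSectionVars false
set_option backward.isDefEq.respectTransparency false
set_option backward.isDefEq.respectTransparency.types false

universe u

open CategoryTheory CategoryTheory.Limits AlgebraicGeometry TopologicalSpace Opposite AdicRing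

noncomputable section

namespace Groth.L09.FCompl

open Groth.L17.FSheaf

theorem fg_of_sup {A : Type u} [CommRing A] {N : Type u} [AddCommGroup N] [Module A N] {K T K'' : Submodule A N}
    (hS : (K ⊔ T).FG) (h1 : T ⊓ K ≤ K'') (h2 : K'' ≤ K) (h3 : K''.FG) : K.FG := by
  obtain ⟨r, s, hs⟩ := Submodule.fg_iff_exists_fin_generating_family.1 hS
  choose a ha b hb hab using fun i => Submodule.mem_sup.1
    (hs ▸ Submodule.subset_span ⟨i, rfl⟩ : s i ∈ K ⊔ T)
  have hle : Submodule.span A (Set.range a) ⊔ K'' ≤ K :=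
    sup_le (Submodule.span_le.2 (by rintro _ ⟨i, rfl⟩; exact ha i)) h2
  rw [le_antisymm (show K ≤ Submodule.span A (Set.range a) ⊔ K'' from fun x hx => ?_) hle]
  · exact (Submodule.fg_span (Set.finite_range a)).sup h3
  obtain ⟨c, hc⟩ := (Submodule.mem_span_range_iff_exists_fun A).1 (hs.ge (Submodule.mem_sup_left (T := T) hx))
  have hsum : ∑ i, c i • a i ∈ Submodule.span A (Set.range a) :=
    Submodule.sum_mem _ fun i _ => Submodule.smul_mem _ _ (Submodule.subset_span ⟨i, rfl⟩)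
  refine Submodule.mem_sup.2 ⟨_, hsum, x - ∑ i, c i • a i, h1 ⟨?_, sub_mem hx (hle (Submodule.mem_sup_left hsum))⟩,
    add_sub_cancel _ _⟩
  rw [show x - ∑ i, c i • a i = ∑ i, c i • b i by
    rw [sub_eq_iff_eq_add, ← Finset.sum_add_distrib, ← hc]
    exact Finset.sum_congr rfl fun i _ => by rw [← smul_add, add_comm, hab]]
  exact Submodule.sum_mem _ fun i _ => Submodule.smul_mem _ _ (hb i)

variable {A : Type u} [CommRing A] {J : Ideal A} {𝔛 : FSch.Sys.{u}} {p : ∀ k, 𝔛.X k ⟶ Spec (CommRingCat.of A)}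
  (hp : ∀ k, 𝔛.ι k ≫ p (k + 1) = p k) {𝔐 : FSch.ModSys 𝔛}

theorem finitePresentation_lG (hC : CutA J 𝔛 p) (hfg : J.FG) (h𝔐 : ∀ k, CohB1.IsFP (𝔐.F k)) (k : ℕ) :
    Module.FinitePresentation A (lG 𝔛 p 𝔐 k) := by
  haveI := (hC k).1
  haveI : IsAffine (𝔛.X k) := isAffine_of_isAffineHom (p k)
  letI : Module Γ(𝔛.X k, ⊤) (lG 𝔛 p 𝔐 k) := inferInstanceAs (Module Γ(𝔛.X k, ⊤) Γ(𝔐.F k, ⊤))
  letI : Algebra A Γ(𝔛.X k, ⊤) := (cA 𝔛 p k).toAlgebra
  haveI : IsScalarTower A Γ(𝔛.X k, ⊤) (lG 𝔛 p 𝔐 k) :=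
    IsScalarTower.of_algebraMap_smul fun a y => (lG_smul 𝔛 p 𝔐 k a y).symm
  haveI : Module.FinitePresentation Γ(𝔛.X k, ⊤) (lG 𝔛 p 𝔐 k) :=
    Groth.L20.ModStalk.finitePresentation_sections _ (h𝔐 k) (isAffineOpen_top (𝔛.X k))
  haveI : Module.FinitePresentation A Γ(𝔛.X k, ⊤) :=
    Module.finitePresentation_of_surjective (Algebra.linearMap A Γ(𝔛.X k, ⊤)) (hC k).2.1 (by
      rw [show LinearMap.ker (Algebra.linearMap A Γ(𝔛.X k, ⊤)) = J ^ (k + 1) from
        Submodule.ext fun a => (SetLike.ext_iff.1 (hC k).2.2 a)]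
      exact hfg.pow)
  exact Module.FinitePresentation.trans (R := A) (lG 𝔛 p 𝔐 k) Γ(𝔛.X k, ⊤)

variable {R : Type u} [CommRing R] {I : Ideal R} (hR : IsBase R I) [Algebra R A] (hA : TopFiniteType R I A)
  (hIJ : J = I.map (algebraMap R A))
include hR hA hIJ

set_option maxHeartbeats 400000 in
/-- Systems of finitely presented modules are completions of finitely presented modules. -/
theorem exists_iso_mSys' (hC : CutA J 𝔛 p) (h𝔐' : 𝔐.IsCoh) (h𝔐 : ∀ k, CohB1.IsFP (𝔐.F k)) :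
    ∃ L : ModuleCat.{u} A, Module.FinitePresentation A L ∧ Nonempty (𝔐 ≅ mSys 𝔛 p hp L) := by
  haveI : IsAdicComplete J A := hIJ ▸ isAdicComplete_finite hR hA A
  have hfg : J.FG := hIJ ▸ (Groth.L05.Bosch.isBase_fg hR).map _
  let L₀ : Submodule A (∀ k, lG 𝔛 p 𝔐 k) :=
    ⨅ k, LinearMap.eqLocus ((lT 𝔛 p hp 𝔐 k).comp (LinearMap.proj (k + 1))) (LinearMap.proj k)
  let π : ∀ k, L₀ →ₗ[A] lG 𝔛 p 𝔐 k := fun k => (LinearMap.proj k).comp L₀.subtype
  have hmem : ∀ (x : L₀) k, lT 𝔛 p hp 𝔐 k (π (k + 1) x) = π k x := fun x k =>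
    (Submodule.mem_iInf _).1 x.2 k
  obtain ⟨-, hπ, hfin⟩ := Groth.Agent.S2291.result A J hfg
    (fun k => lG 𝔛 p 𝔐 k) (lT 𝔛 p hp 𝔐) (fun k => (lT_spec J 𝔛 p hp 𝔐 hC h𝔐' k).1)
    (fun k => Submodule.ext fun x => LinearMap.mem_ker.trans ((lT_spec J 𝔛 p hp 𝔐 hC h𝔐' k).2 x))
    L₀ π (fun k => LinearMap.ext fun x => hmem x k)
    (fun x hx => Subtype.ext (funext hx))
    (fun y hy => ⟨⟨y, (Submodule.mem_iInf _).2 hy⟩, fun _ => rfl⟩)
  haveI := fun k => finitePresentation_lG hC hfg h𝔐 k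
  haveI : Module.Finite A L₀ := hfin inferInstance inferInstance
  haveI : Module.FinitePresentation A L₀ := by
    obtain ⟨n, g, hg⟩ := Module.Finite.exists_fin' A L₀
    refine Module.finitePresentation_of_surjective g hg ?_
    obtain ⟨-, c, K'', hK, hKfg, hAR⟩ := Groth.L05.Bosch.good_of_topFiniteType hR hA (Fin n → A) (LinearMap.ker g)
    refine fg_of_sup (T := J ^ c • (⊤ : Submodule A (Fin n → A))) ?_ ?_ hK hKfg
    · rcases c with _ | c
      · rw [pow_zero, Ideal.one_eq_top, Submodule.top_smul, sup_top_eq]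
        exact Module.Finite.fg_top
      · have hs : LinearMap.ker ((π c).comp g) = LinearMap.ker g ⊔ J ^ (c + 1) • (⊤ : Submodule A (Fin n → A)) := by
          rw [LinearMap.ker_comp, (hπ c).2, show J ^ (c + 1) • (⊤ : Submodule A L₀) =
            (J ^ (c + 1) • (⊤ : Submodule A (Fin n → A))).map g by
              rw [Submodule.map_smul'', Submodule.map_top, LinearMap.range_eq_top.2 hg],
            Submodule.comap_map_eq, sup_comm]
        rw [← hs]
        exact Module.FinitePresentation.fg_ker _ ((hπ c).1.comp hg)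
    · intro x hx
      have h1 := hAR 0 (show x ∈ (I ^ (0 + c) • (⊤ : Submodule R (Fin n → A))) ⊓
          (LinearMap.ker g).restrictScalars R from ⟨by
        rw [zero_add, ← Submodule.restrictScalars_top R A (Fin n → A), ← map_pow_smul_top_restrict (Fin n → A) ⊤ c]
        exact hIJ ▸ hx.1, hx.2⟩)
      rw [pow_zero, Ideal.one_eq_top, Submodule.top_smul] at h1
      exact h1
  refine ⟨ModuleCat.of A L₀, inferInstance, ?_⟩
  obtain ⟨Φ, hΦ⟩ := exists_hom_of_compat 𝔛 p hp 𝔐 (ModuleCat.of A L₀) π fun k x => hmem x k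
  haveI : ∀ k, IsIso (Φ.app k) := fun k => by
    haveI := (hC k).1
    haveI : IsAffine (𝔛.X k) := isAffine_of_isAffineHom (p k)
    haveI := (h𝔐' k).1
    haveI : Coh.IsQCoh ((mSys 𝔛 p hp (ModuleCat.of A L₀)).F k) :=
      Groth.L16.AffineBC.isQCoh_pullback (p k) _
    have hq := qA_spec J 𝔛 p hp (ModuleCat.of A L₀) hC k
    refine isIso_of_bijective_top (Φ.app k) ⟨fun a b hab => ?_, fun z => ?_⟩
    · obtain ⟨x, rfl⟩ := hq.1 a
      obtain ⟨y, rfl⟩ := hq.1 b
      rw [hΦ, hΦ] at hab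
      refine sub_eq_zero.1 (Eq.trans (map_sub (qA 𝔛 p hp (ModuleCat.of A L₀) k) x y).symm ?_)
      refine (hq.2 _).2 ?_
      exact (hπ k).2 ▸ LinearMap.mem_ker.2 ((map_sub (π k) x y).trans (sub_eq_zero.2 hab))
    · obtain ⟨x, rfl⟩ := (hπ k).1 z
      exact ⟨_, hΦ k x⟩
  refine ⟨Iso.symm ⟨Φ, ⟨fun k => inv (Φ.app k), fun k => ?_⟩,
    FSch.ModSys.Hom.ext (funext fun k => IsIso.hom_inv_id (Φ.app k)),
    FSch.ModSys.Hom.ext (funext fun k => IsIso.inv_hom_id (Φ.app k))⟩⟩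
  rw [CategoryTheory.Functor.map_inv, IsIso.inv_comp_eq, ← Category.assoc, Φ.comm k, Category.assoc,
    IsIso.hom_inv_id]
  exact (Category.comp_id _).symm

end Groth.L09.FCompl
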