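import Groth.Agent.L09.FCompl.Functions
import Groth.Agent.L09.FCompl.Global
import Groth.Agent.L09.FCompl.Levels
import Groth.Agent.L09.FCompl.SysModule

/-!
# Coherent modules on a formal spectrum are completions of finitely presented modules
-/

set_option autoImplicit false
set_option linter.style.haveILetI false
set_option linter.unusedSectionVars false
set_option backward.isDefEq.respectTransparency false
set_option backward.isDefEq.respectTransparency.types false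

universe u

open CategoryTheory CategoryTheory.Limits AlgebraicGeometry TopologicalSpace Opposite AdicRing

noncomputable section

namespace Groth.L09.FCompl

open Groth.L17.FSheaf
open Groth.L18.Frame (rs)

section Comb

variable {A : CommRingCat.{u}} {J : Ideal A} {𝔛 : FSch.Sys.{u}} {h : 𝔛.IsFormal}
  {p : ∀ k, 𝔛.X k ⟶ Spec A} {hp : ∀ k, 𝔛.ι k ≫ p (k + 1) = p k} [IsClosedImmersion (p 0)]
  {𝓘 : (Spec A).IdealSheafData} (hcut : CutBy 𝔛 p 𝓘) (hJ : IsIdealOf J 𝓘)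
include hp hcut hJ

/-- Sections vanishing on the smallest level are combinations with coefficients in the ideal. -/
theorem exists_comb_zero (M : ModuleCat.{u} A) (f : A) {n : ℕ} (v : Fin n → M)
    (hv : Submodule.span A (Set.range v) = ⊤)
    (z : RM 𝔛 h (dSys 𝔛 p hp M) (pU 𝔛 p (bO f)))
    (hz : qM 𝔛 h (dSys 𝔛 p hp M) 0 _ z = 0) :
    ∃ γ : Fin n → O 𝔛 h (pU 𝔛 p (bO f)),
      (∀ i, γ i ∈ Groth.L17.FSheaf.J 𝔛 h _) ∧
      z = ∑ i, γ i • compl 𝔛 h p hp ((tilde.functor A).obj M) (bO f)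
        (tSec M _ (v i)) := by
  let C := Γ(Spec A, bO f)
  let F := (tilde.functor A).obj M
  let e : Fin n → Γ(F, bO f) := fun i => tSec M _ (v i)
  have he : Submodule.span C (Set.range e) = ⊤ := by
    rw [show Set.range e = tSec M _ '' Set.range v from Set.range_comp _ _]
    exact span_eq_top_of_isLocalizedModule C (Submonoid.powers f)
      (tSec M (bO f)) hv
  obtain ⟨m, hm, hd⟩ := exists_lifts' J 𝔛 h p hp hcut hJ M f z
  have h0 := ((pW_spec' J 𝔛 h p hp hcut hJ M f 0).2 (m 0)).1 ((hm 0).trans hz)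
  rw [zero_add, pow_one] at h0
  obtain ⟨c, hcJ, hc⟩ := exists_coeff_of_mem e he _ h0
  choose a ha hda using fun k => exists_coeff_of_mem e he _ (hd k)
  let s : Fin n → ℕ → C := fun i k => c i + ∑ l ∈ Finset.range k, a l i
  have hs : ∀ k, ∑ i, s i k • e i = m k := fun k => by
    induction k with
    | zero => simpa [s] using hc
    | succ k ih =>
      simp only [s, Finset.sum_range_succ, ← add_assoc, add_smul, Finset.sum_add_distrib] at ih ⊢
      rw [hda k, ih, add_sub_cancel]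
  choose γ hγ using fun i => exists_function 𝔛 h p hp (bO f) (s i) fun k => by
    refine aW_eq_zero J 𝔛 h p hp hcut hJ ?_
    simp only [s, Finset.sum_range_succ, add_sub_add_left_eq_sub, add_sub_cancel_left]
    exact ha k i
  refine ⟨γ, fun i => ?_, qM_ext 𝔛 h _ fun k => ?_⟩
  · rw [RingHom.mem_ker, hγ i 0]
    refine aW_eq_zero J 𝔛 h p hp hcut hJ ?_
    rw [zero_add, pow_one]
    simpa [s] using hcJ i
  rw [← hm k, ← hs k, pW_sum, map_sum]
  refine Finset.sum_congr rfl fun i _ => ?_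
  rw [map_smul, qM_compl, smul_LM, hγ, pW_smul]

end Comb

variable {A : Type u} [CommRing A] {J : Ideal A} {𝔛 : FSch.Sys.{u}} {h : 𝔛.IsFormal}
  {p : ∀ k, 𝔛.X k ⟶ Spec (CommRingCat.of A)} {hp : ∀ k, 𝔛.ι k ≫ p (k + 1) = p k} [IsClosedImmersion (p 0)]
  {𝓘 : (Spec (CommRingCat.of A)).IdealSheafData} (hcut : CutBy 𝔛 p 𝓘)
  (hJ : IsIdealOf (A := CommRingCat.of A) J 𝓘)
include hp hcut hJ

variable {R : Type u} [CommRing R] {I : Ideal R} (hR : IsBase R I) [Algebra R A] (hA : TopFiniteType R I A)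
  (hIJ : J = I.map (algebraMap R A)) (hC : CutA J 𝔛 p)
include hR hA hIJ hC

variable {𝔉 : FSch.ModF 𝔛 h} (h𝔉 : FSch.IsCohF 𝔛 h 𝔉)
include h𝔉

set_option maxHeartbeats 800000 in
/-- Finitely presented modules are completions of finitely presented modules. -/
theorem exists_iso_delta :
    ∃ L : ModuleCat.{u} A, Module.FinitePresentation A L ∧
      Nonempty (𝔉 ≅ delta (A := CommRingCat.of A) 𝔛 h p hp L) := by
  obtain ⟨L, hL, ⟨Ψ⟩⟩ := exists_iso_mSys' hp hR hA hIJ hC (isCoh_canonSys' h𝔉) (fun k => isFP_LF h𝔉 k)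
  refine ⟨L, hL, ?_⟩
  have hLf : Module.Finite A L := inferInstance
  let 𝔐 : FSch.ModSys 𝔛 := dSys (A := CommRingCat.of A) 𝔛 p hp L
  let Ψ' : canonSys 𝔛 h 𝔉 ≅ 𝔐 := Ψ
  let φ : 𝔉 ⟶ 𝔐.realMod h := toCanon 𝔛 h 𝔉 ≫ FSch.ModSys.realModMap h Ψ'.hom
  let ψ : ∀ (k : ℕ) (U : (𝔛.X 0).Opens), Γ(LF 𝔛 h 𝔉 k, 𝔛.lvU h k U) → Γ(𝔐.F k, 𝔛.lvU h k U) :=
    fun k U => (Ψ'.hom.app k).app (𝔛.lvU h k U)
  have hψ : ∀ k U, Function.Bijective (ψ k U) := fun k U => by
    refine Function.bijective_iff_has_inverse.2 ⟨fun z => (Ψ'.inv.app k).app (𝔛.lvU h k U) z, fun z => ?_, fun z => ?_⟩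
    · exact ConcreteCategory.congr_hom (congrArg (fun t : canonSys 𝔛 h 𝔉 ⟶ canonSys 𝔛 h 𝔉 =>
        (t.app k).app (𝔛.lvU h k U)) Ψ'.hom_inv_id) z
    · exact ConcreteCategory.congr_hom (congrArg (fun t : 𝔐 ⟶ 𝔐 =>
        (t.app k).app (𝔛.lvU h k U)) Ψ'.inv_hom_id) z
  have hφ : ∀ (k : ℕ) (U : (𝔛.X 0).Opens) (x : SF 𝔛 h 𝔉 U),
      (qM 𝔛 h 𝔐 k U ((φ.val.app (op U)).hom x) : Γ(𝔐.F k, 𝔛.lvU h k U)) = ψ k U (ηF 𝔛 h 𝔉 k U x) :=
    fun k U x => (qM_map 𝔛 h Ψ'.hom k U _).trans (congrArg (ψ k U) (qM_toCanon' k U x))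
  have hψs : ∀ (k : ℕ) (U : (𝔛.X 0).Opens) {n : ℕ} (c : Fin n → Γ(𝔛.X k, 𝔛.lvU h k U))
      (t : Fin n → Γ(LF 𝔛 h 𝔉 k, 𝔛.lvU h k U)), ψ k U (∑ i, c i • t i) = ∑ i, c i • ψ k U (t i) :=
    fun k U n c t => (map_sum ((Ψ'.hom.app k).app (𝔛.lvU h k U)).hom _ _).trans
      (Finset.sum_congr rfl fun i _ => Scheme.Modules.Hom.app_smul _ _ _)
  have hB := isBasis_locPres h𝔉 (isBasis_bO (A := CommRingCat.of A) 𝔛 p)
  haveI : Epi φ := by
    refine epi_of_surjective_basis hB φ ?_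
    rintro _ ⟨⟨f, rfl⟩, n, m, s, r, hpres⟩ y
    let U := pU 𝔛 p (bO (A := CommRingCat.of A) f)
    have hU : IsAffineOpen U := isAffineOpen_pU 𝔛 p (isAffineOpen_bO _)
    obtain ⟨-, hcompl⟩ := O_spec' hcut hJ hR hA hIJ f (h := h) (hp := hp)
    haveI := hcompl (O 𝔛 h U)
    obtain ⟨N, v, hv⟩ := Module.Finite.exists_fin (R := A) (M := L)
    haveI : Module.Finite (O 𝔛 h U) (RM 𝔛 h 𝔐 U) := by
      refine Module.Finite.of_fg_top (Submodule.fg_def.2 ⟨_, Set.finite_range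
        (fun i => compl 𝔛 h p hp _ (bO (A := CommRingCat.of A) f) (tSec (A := CommRingCat.of A) L _ (v i))),
        eq_top_iff.2 fun z _ => ?_⟩)
      obtain ⟨γ, rfl⟩ := exists_comb (A := CommRingCat.of A) J 𝔛 h p hp hcut hJ L f v hv z
      exact Submodule.sum_mem _ fun i _ => Submodule.smul_mem _ _ (Submodule.subset_span ⟨i, rfl⟩)
    let g : Fin n → RM 𝔛 h 𝔐 U := fun i => (φ.val.app (op U)).hom (s i)
    have hsup : (⊤ : Submodule (O 𝔛 h U) (RM 𝔛 h 𝔐 U)) ≤
        Submodule.span (O 𝔛 h U) (Set.range g) ⊔ Groth.L17.FSheaf.J 𝔛 h U • ⊤ := fun z _ => by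
      obtain ⟨w, hw⟩ := (hψ 0 U).2 (qM 𝔛 h 𝔐 0 U z)
      obtain ⟨c, hc⟩ := (level_spec 𝔛 h 0 hpres (isAffineOpen_lvU 𝔛 h hU 0)).1 w
      choose b hb using fun i => pR_surjective 𝔛 h hU 0 (c i)
      refine Submodule.mem_sup.2 ⟨∑ i, b i • g i,
        Submodule.sum_mem _ fun i _ => Submodule.smul_mem _ _ (Submodule.subset_span ⟨i, rfl⟩),
        z - ∑ i, b i • g i, ?_, add_sub_cancel _ _⟩
      obtain ⟨γ, hγJ, hγ⟩ := exists_comb_zero hcut hJ L f v hv (z - ∑ i, b i • g i) (by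
        rw [map_sub, qM_sum, sub_eq_zero, ← hw, ← hc, hψs]
        refine Finset.sum_congr rfl fun i _ => ?_
        rw [hb]
        exact congrArg (c i • ·) (hφ 0 U (s i)).symm)
      rw [hγ]
      exact Submodule.sum_mem _ fun i _ => Submodule.smul_mem_smul (hγJ i) trivial
    have htop : Submodule.span (O 𝔛 h U) (Set.range g) = ⊤ := top_le_iff.1
      (Submodule.le_of_le_smul_of_le_jacobson_bot Module.Finite.fg_top
        (IsAdicComplete.le_jacobson_bot (Groth.L17.FSheaf.J 𝔛 h U)) hsup)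
    obtain ⟨c, hc⟩ := (Submodule.mem_span_range_iff_exists_fun _).1 (htop ▸ Submodule.mem_top :
      (show RM 𝔛 h 𝔐 U from y) ∈ _)
    refine ⟨∑ i, c i • s i, ?_⟩
    rw [map_sum]
    refine Eq.trans ?_ hc
    exact Finset.sum_congr rfl fun i _ => map_smul _ _ _
  haveI : Mono φ := by
    refine Preadditive.mono_of_kernel_zero (hom_ext_basis hB _ _ ?_)
    rintro W ⟨-, n, m, s, r, hpres⟩ z
    let y : SF 𝔛 h 𝔉 W := ((kernel.ι φ).val.app (op W)).hom z
    have hy : (φ.val.app (op W)).hom y = 0 :=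
      LinearMap.congr_fun (congrArg (fun t => ((t : kernel φ ⟶ _).val.app (op W)).hom) (kernel.condition φ)) z
    show y = 0
    clear_value y
    refine eq_of_locally (R := ModSite.ringSh (𝔛.Osh h)) 𝔉 _ _ fun x hx => ?_
    obtain ⟨V₀, hV₀, hxV₀, c₀, hc₀⟩ := hpres.gen (le_refl W) x hx y
    obtain ⟨_, ⟨f, rfl⟩, hxV, hVV₀⟩ := Opens.isBasis_iff_nbhd.1 (isBasis_bO (A := CommRingCat.of A) 𝔛 p) hxV₀
    let V := pU 𝔛 p (bO (A := CommRingCat.of A) f)
    have hVW : V ≤ W := hVV₀.trans hV₀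
    refine ⟨V, hVW, hxV, ?_⟩
    rw [res_zero]
    have hpV := hpres.restrict hVW
    let c : Fin n → O 𝔛 h V := fun i => rres (R := ModSite.ringSh (𝔛.Osh h)) hVV₀ (c₀ i)
    let s' : Fin n → SF 𝔛 h 𝔉 V := fun i => res (R := ModSite.ringSh (𝔛.Osh h)) 𝔉 hVW (s i)
    have hyc : res (R := ModSite.ringSh (𝔛.Osh h)) 𝔉 hVW y = ∑ i, c i • s' i := by
      have h1 := congrArg (res (R := ModSite.ringSh (𝔛.Osh h)) 𝔉 hVV₀) hc₀
      rw [res_comb, res_res] at h1
      exact h1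
    have h0 : (φ.val.app (op V)).hom (∑ i, c i • s' i) = 0 := by
      rw [← hyc]
      refine (PresheafOfModules.naturality_apply φ.val (homOfLE hVW).op y).trans ?_
      exact (congrArg _ hy).trans (map_zero _)
    have hV : IsAffineOpen V := isAffineOpen_pU 𝔛 p (isAffineOpen_bO _)
    obtain ⟨hker, hcompl⟩ := O_spec' hcut hJ hR hA hIJ f (h := h) (hp := hp)
    let r' : Fin m → Fin n → O 𝔛 h V := fun j i => rres (R := ModSite.ringSh (𝔛.Osh h)) hVW (r j i)
    let P : Submodule (O 𝔛 h V) (Fin n → O 𝔛 h V) := Submodule.span (O 𝔛 h V) (Set.range r')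
    have h1 : c ∈ P := by
      haveI := hcompl ((Fin n → O 𝔛 h V) ⧸ P)
      rw [← Submodule.Quotient.mk_eq_zero]
      refine IsHausdorff.haus (I := Groth.L17.FSheaf.J 𝔛 h V) inferInstance _ fun k => SModEq.zero.2 ?_
      obtain ⟨d, hd⟩ := (level_spec 𝔛 h k hpV (isAffineOpen_lvU 𝔛 h hV k)).2.1
        (fun i => pR 𝔛 h k V (c i)) (by
        refine (hψ k V).1 ?_
        rw [show ψ k V 0 = 0 from map_zero ((Ψ'.hom.app k).app (𝔛.lvU h k V)).hom, hψs]
        refine Eq.trans ?_ ((congrArg _ h0).trans (map_zero (qM 𝔛 h 𝔐 k V)))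
        rw [map_sum]
        simp only [map_smul]
        rw [qM_sum]
        exact Finset.sum_congr rfl fun i _ => congrArg (pR 𝔛 h k V (c i) • ·) (hφ k V (s' i)).symm)
      choose b hb using fun j => pR_surjective 𝔛 h hV k (d j)
      let w : Fin n → O 𝔛 h V := ∑ j, b j • r' j
      have hw : w ∈ P := Submodule.sum_mem _ fun j _ => Submodule.smul_mem _ _ (Submodule.subset_span ⟨j, rfl⟩)
      have h2 : ∀ i, (c - w) i ∈ Groth.L17.FSheaf.J 𝔛 h V ^ k := fun i => by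
        refine Ideal.pow_le_pow_right (Nat.le_succ k) ?_
        rw [← hker k, RingHom.mem_ker, Pi.sub_apply, map_sub, sub_eq_zero, hd i]
        simp only [w, r', Finset.sum_apply, Pi.smul_apply, smul_eq_mul, map_sum, map_mul]
        exact Finset.sum_congr rfl fun j _ => congrArg (· * _) (hb j).symm
      have h3 : c - w ∈ Groth.L17.FSheaf.J 𝔛 h V ^ k • (⊤ : Submodule (O 𝔛 h V) (Fin n → O 𝔛 h V)) := by
        rw [← Finset.univ_sum_single (c - w)]
        refine Submodule.sum_mem _ fun i _ => ?_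
        rw [show (Pi.single i ((c - w) i) : Fin n → O 𝔛 h V) = (c - w) i • Pi.single i 1 by
          rw [← Pi.single_smul, smul_eq_mul, mul_one]]
        exact Submodule.smul_mem_smul (h2 i) Submodule.mem_top
      rw [show (Submodule.Quotient.mk c : (Fin n → O 𝔛 h V) ⧸ P) = P.mkQ (c - w) from
        ((Submodule.Quotient.eq P).2 (by rwa [sub_sub_cancel]) : _)]
      have h4 := Submodule.mem_map_of_mem (f := P.mkQ) h3
      rwa [Submodule.map_smul'', Submodule.map_top, Submodule.range_mkQ] at h4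
    obtain ⟨d, hd⟩ := (Submodule.mem_span_range_iff_exists_fun _).1 h1
    rw [hyc, ← hd]
    simp only [Finset.sum_apply, Pi.smul_apply, smul_eq_mul, Finset.sum_smul, mul_smul]
    rw [Finset.sum_comm]
    refine Finset.sum_eq_zero fun j _ => ?_
    rw [← Finset.smul_sum]
    refine Eq.trans (congrArg (d j • ·) (hpV.rel_zero j)) (smul_zero _)
  haveI := isIso_of_mono_of_epi φ
  exact ⟨asIso φ⟩

end Groth.L09.FCompl
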