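import Groth.Agent.L09.FCompl.Exact

/-!
# Completions of finite modules on formal spectra
-/

set_option autoImplicit false
set_option linter.style.haveILetI false
set_option linter.unusedSectionVars false
set_option backward.isDefEq.respectTransparency false
set_option backward.isDefEq.respectTransparency.types false

universe u

open CategoryTheory CategoryTheory.Limits AlgebraicGeometry AdicRing

noncomputable section

namespace Groth.L09.FCompl

open Groth.L17.FSheaf

variable {R : Type u} [CommRing R] {I : Ideal R} (hR : IsBase R I) {A : Type u} [CommRing A] [Algebra R A]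
  (hA : TopFiniteType R I A)

/-- The ideal sheaf of the completion. -/
abbrev idl (I : Ideal R) (A : Type u) [CommRing A] [Algebra R A] : (Spec (CommRingCat.of A)).IdealSheafData :=
  FSch.idealSpec A (I.map (algebraMap R A))

variable (h : (FSch.completionAlong (Spec (CommRingCat.of A)) (idl I A)).IsFormal)

instance isClosedImmersion_toX (k : ℕ) :
    IsClosedImmersion (FSch.completionToX (Spec (CommRingCat.of A)) (idl I A) k) :=
  inferInstanceAs (IsClosedImmersion ((idl I A) ^ (k + 1)).subschemeι)

theorem realModMap_complModMap {M N : ModuleCat.{u} A} (u : M ⟶ N) :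
    FSch.ModSys.realModMap h (FSch.complModMap (idl I A) ((tilde.functor (CommRingCat.of A)).map u)) =
      deltaMap (A := CommRingCat.of A) _ h _ (FSch.completionToX_comm _ (idl I A)) u :=
  congrArg (FSch.ModSys.realModMap h) (pullSysMap_completion (idl I A) _).symm

include hR hA in
theorem bijective_realModMap_complModMap (M N : ModuleCat.{u} A) [Module.Finite A M] [Module.Finite A N] :
    Function.Bijective (fun u : M ⟶ N =>
      FSch.ModSys.realModMap h (FSch.complModMap (idl I A) ((tilde.functor (CommRingCat.of A)).map u))) := by
  haveI := isAdicComplete_finite hR hA N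
  rw [funext fun u => realModMap_complModMap h (M := M) (N := N) u]
  exact bijective_deltaMap (A := CommRingCat.of A) (I.map (algebraMap R A)) _ h _
    (FSch.completionToX_comm _ (idl I A)) (cutBy_completionToX (idl I A))
    (isIdealOf_idealSpec A (I.map (algebraMap R A))) M N

include hR hA in
theorem shortExact_realModMap_complModMap (S : ShortComplex (ModuleCat.{u} A)) (hS : S.ShortExact)
    [Module.Finite A S.X₂] :
    ∃ w : FSch.ModSys.realModMap h (FSch.complModMap (idl I A) ((tilde.functor (CommRingCat.of A)).map S.f)) ≫
        FSch.ModSys.realModMap h (FSch.complModMap (idl I A) ((tilde.functor (CommRingCat.of A)).map S.g)) = 0,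
      (ShortComplex.mk _ _ w).ShortExact := by
  rw [realModMap_complModMap h S.f, realModMap_complModMap h S.g]
  exact ⟨_, shortExact_deltaMap (A := CommRingCat.of A) (h := h) (hp := FSch.completionToX_comm _ (idl I A))
    (cutBy_completionToX (idl I A)) (isIdealOf_idealSpec A (I.map (algebraMap R A))) hR hA rfl S hS
    (deltaMap_comp_eq_zero (cutBy_completionToX (idl I A)) (isIdealOf_idealSpec A (I.map (algebraMap R A))) S.f S.g S.zero)⟩

include hR hA in
theorem shortExact_of_realModMap_complModMap (M₁ M₂ M₃ : ModuleCat.{u} A) [Module.Finite A M₁] [Module.Finite A M₂]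
    [Module.Finite A M₃] (u : M₁ ⟶ M₂) (v : M₂ ⟶ M₃)
    (hΔ : ∃ w : FSch.ModSys.realModMap h (FSch.complModMap (idl I A) ((tilde.functor (CommRingCat.of A)).map u)) ≫
        FSch.ModSys.realModMap h (FSch.complModMap (idl I A) ((tilde.functor (CommRingCat.of A)).map v)) = 0,
      (ShortComplex.mk _ _ w).ShortExact) :
    ∃ w : u ≫ v = 0, (ShortComplex.mk u v w).ShortExact := by
  rw [realModMap_complModMap h u, realModMap_complModMap h v] at hΔ
  exact shortExact_of_deltaMap (A := CommRingCat.of A) (h := h) (hp := FSch.completionToX_comm _ (idl I A))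
    (cutBy_completionToX (idl I A)) (isIdealOf_idealSpec A (I.map (algebraMap R A))) hR hA rfl u v hΔ

end Groth.L09.FCompl
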